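import Mathlib

/-!
Two involutions of a finite set: the dihedral orbits and the tools to modify one involution inside
given orbits so that both new products have odd order.
-/

set_option autoImplicit false
set_option linter.style.haveILetI false
set_option linter.unusedSectionVars false

namespace Cfsg.Agent.Lib.OddProductGraph

variable {α : Type*}

/-- `v` has odd period under `τ`. -/
def OddPer (τ : Equiv.Perm α) (v : α) : Prop := ∃ e : ℕ, Odd e ∧ (τ ^ e) v = v

theorem OddPer.pow {τ : Equiv.Perm α} {v : α} (h : OddPer τ v) (i : ℕ) : OddPer τ ((τ ^ i) v) := by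
  obtain ⟨e, he, h⟩ := h
  exact ⟨e, he, by rw [← Equiv.Perm.mul_apply, ← pow_add, add_comm, pow_add, Equiv.Perm.mul_apply, h]⟩

theorem OddPer.fixed {τ : Equiv.Perm α} {v : α} (h : τ v = v) : OddPer τ v :=
  ⟨1, odd_one, by rw [pow_one, h]⟩

theorem OddPer.of_two {τ : Equiv.Perm α} {v w : α} {a b : ℕ} (h1 : (τ ^ a) v = w)
    (h2 : (τ ^ b) w = v) (h : Odd (a + b)) : OddPer τ v ∧ OddPer τ w := by
  have hv : OddPer τ v := ⟨a + b, h, by rw [add_comm, pow_add, Equiv.Perm.mul_apply, h1, h2]⟩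
  exact ⟨hv, h1 ▸ hv.pow a⟩

theorem odd_orderOf [Finite α] {τ : Equiv.Perm α} (h : ∀ v, OddPer τ v) : Odd (orderOf τ) := by
  classical
  haveI := Fintype.ofFinite α
  choose e he hfix using h
  have hE : Odd (∏ v, e v) :=
    Finset.prod_induction _ Odd (fun a b ha hb => ha.mul hb) odd_one fun v _ => he v
  refine Odd.of_dvd_nat hE (orderOf_dvd_of_pow_eq_one (Equiv.ext fun v => ?_))
  obtain ⟨k, hk⟩ := Finset.dvd_prod_of_mem e (Finset.mem_univ v)
  rw [hk, pow_mul, Equiv.Perm.one_apply]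
  clear hk
  induction k with
  | zero => simp
  | succ j ih =>
    rw [pow_succ, Equiv.Perm.mul_apply, hfix, ih]

/-- Following `σ` as long as `T` does not interfere. -/
theorem segment (T σ : Equiv.Perm α) (s : α) (h : ℕ)
    (h1 : ∀ i, 0 < i → i < h → T ((σ ^ i) s) = (σ ^ i) s) :
    (∀ i, i < h → ((T * σ) ^ i) s = (σ ^ i) s) ∧
      (0 < h → ((T * σ) ^ h) s = T ((σ ^ h) s)) := by
  have hi : ∀ i, i < h → ((T * σ) ^ i) s = (σ ^ i) s := by
    intro i
    induction i with
    | zero => simp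
    | succ j ih =>
      intro hj
      rw [pow_succ', Equiv.Perm.mul_apply, ih (by omega), Equiv.Perm.mul_apply,
        ← Equiv.Perm.mul_apply σ, ← pow_succ', h1 _ (by omega) hj]
  refine ⟨hi, fun hpos => ?_⟩
  obtain ⟨j, rfl⟩ : ∃ j, h = j + 1 := ⟨h - 1, by omega⟩
  rw [pow_succ', Equiv.Perm.mul_apply, hi j (by omega), Equiv.Perm.mul_apply, ← Equiv.Perm.mul_apply σ,
    ← pow_succ']

variable [Finite α]

/-- Transport a small configuration along an embedding. -/
theorem exists_twist {I : Type*} [Fintype I] [DecidableEq I] {x : Equiv.Perm α}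
    (hx : ∀ v, x (x v) = v) (ι : I → α) (hι : Function.Injective ι) (p ξ : Equiv.Perm I)
    (hξ : ∀ i, x (ι i) = ι (ξ i)) (hp : ∀ i, p (ξ (p i)) = ξ i) {e : ℕ} (he : Odd e) (hpe : p ^ e = 1) :
    ∃ T : Equiv.Perm α, (∀ i, T (ι i) = ι (p i)) ∧ (∀ v, v ∉ Set.range ι → T v = v) ∧
      (∃ e : ℕ, Odd e ∧ T ^ e = 1) ∧ ∀ v, T (x (T v)) = x v := by
  classical
  let f : I ↪ α := ⟨ι, hι⟩
  let T := p.viaFintypeEmbedding f
  have hT : ∀ i, T (ι i) = ι (p i) := fun i => p.viaFintypeEmbedding_apply_image f i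
  have hT' : ∀ v, v ∉ Set.range ι → T v = v := fun v hv =>
    p.viaFintypeEmbedding_apply_notMem_range f hv
  have hpow : ∀ (k : ℕ) (i : I), (T ^ k) (ι i) = ι ((p ^ k) i) := by
    intro k
    induction k with
    | zero => simp
    | succ j ih => intro i; rw [pow_succ', Equiv.Perm.mul_apply, ih, hT, ← Equiv.Perm.mul_apply p, ← pow_succ']
  refine ⟨T, hT, hT', ⟨e, he, Equiv.ext fun v => ?_⟩, fun v => ?_⟩
  · by_cases hv : v ∈ Set.range ι
    · obtain ⟨i, rfl⟩ := hv
      rw [hpow, hpe, Equiv.Perm.one_apply, Equiv.Perm.one_apply]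
    · rw [Equiv.Perm.one_apply]
      exact Equiv.Perm.pow_apply_eq_self_of_apply_eq_self (hT' v hv) e
  · by_cases hv : v ∈ Set.range ι
    · obtain ⟨i, rfl⟩ := hv
      rw [hT, hξ, hT, hp, hξ]
    · rw [hT' v hv, hT']
      rintro ⟨i, hi⟩
      exact hv ⟨ξ i, by rw [← hξ, hi, hx]⟩

section Orbits

variable {x y : Equiv.Perm α} (hx : ∀ v, x (x v) = v) (hy : ∀ v, y (y v) = v)

/-- The period of `v` under the product. -/
noncomputable def per (x y : Equiv.Perm α) (v : α) : ℕ := Function.minimalPeriod (x * y) v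

/-- The orbit of the group generated by `x` and `y`. -/
def orbit (x y : Equiv.Perm α) (v : α) : Set α :=
  {w | (x * y).SameCycle v w ∨ (x * y).SameCycle (x v) w}

theorem zpow_apply_eq_self_iff (v : α) (i : ℤ) : ((x * y) ^ i) v = v ↔ (per x y v : ℤ) ∣ i := by
  have h := MulAction.zpow_smul_eq_iff_minimalPeriod_dvd (a := x * y) (b := v) (n := i)
  exact h

theorem pow_apply_eq_self_iff (v : α) (i : ℕ) : ((x * y) ^ i) v = v ↔ per x y v ∣ i := by
  have h := zpow_apply_eq_self_iff (x := x) (y := y) v (i : ℤ)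
  rwa [zpow_natCast, Int.natCast_dvd_natCast] at h

theorem per_pos (v : α) : 0 < per x y v := by
  refine Nat.pos_of_ne_zero fun h0 => ?_
  have h := (pow_apply_eq_self_iff (x := x) (y := y) v (orderOf (x * y))).mp
    (by rw [pow_orderOf_eq_one, Equiv.Perm.one_apply])
  rw [h0, Nat.zero_dvd] at h
  exact (orderOf_pos (x * y)).ne' h

theorem pow_per (v : α) : ((x * y) ^ per x y v) v = v :=
  (pow_apply_eq_self_iff v _).mpr dvd_rfl

theorem pow_inj {v : α} {i j : ℕ} (hi : i < per x y v) (hj : j < per x y v)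
    (h : ((x * y) ^ i) v = ((x * y) ^ j) v) : i = j := by
  wlog hij : i ≤ j generalizing i j
  · exact (this hj hi h.symm (le_of_not_ge hij)).symm
  have h1 : ((x * y) ^ i) (((x * y) ^ (j - i)) v) = ((x * y) ^ i) v := by
    rw [← Equiv.Perm.mul_apply, ← pow_add, Nat.add_sub_cancel' hij, h]
  have h2 := (pow_apply_eq_self_iff v _).mp (((x * y) ^ i).injective h1)
  have := Nat.eq_zero_of_dvd_of_lt h2 (by omega)
  omega

include hx hy

theorem conj_c (v : α) : x ((x * y) v) = (x * y)⁻¹ (x v) := by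
  rw [eq_comm, Equiv.Perm.inv_eq_iff_eq, Equiv.Perm.mul_apply, Equiv.Perm.mul_apply, hx, hy]

theorem conj_zpow_apply (i : ℤ) : ∀ v : α, x (((x * y) ^ i) v) = ((x * y) ^ (-i)) (x v) := by
  have h : x * (x * y) ^ i * x⁻¹ = (x * y) ^ (-i) := by
    rw [← conj_zpow, zpow_neg, ← inv_zpow]
    congr 1
    refine Equiv.ext fun w => ?_
    rw [Equiv.Perm.mul_apply, Equiv.Perm.mul_apply, conj_c hx hy]
    congr 1
    exact Equiv.apply_symm_apply x w
  intro v
  rw [← h, Equiv.Perm.mul_apply, Equiv.Perm.mul_apply]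
  congr 2
  exact (Equiv.symm_apply_apply x v).symm

theorem conj_pow (i : ℕ) (v : α) : ((x * y) ^ i) (x (((x * y) ^ i) v)) = x v := by
  rw [← zpow_natCast, conj_zpow_apply hx hy, ← Equiv.Perm.mul_apply, ← zpow_add, add_neg_cancel, zpow_zero,
    Equiv.Perm.one_apply]

theorem per_x (v : α) : per x y (x v) = per x y v := by
  have key : ∀ u : α, per x y (x u) ∣ per x y u := fun u => by
    refine (pow_apply_eq_self_iff (x := x) (y := y) (x u) _).mp ?_
    have h := conj_pow hx hy (per x y u) u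
    rwa [pow_per] at h
  refine Nat.dvd_antisymm (key v) ?_
  have h := key (x v)
  rwa [hx] at h

theorem per_zpow (v : α) (i : ℤ) : per x y (((x * y) ^ i) v) = per x y v := by
  have key : ∀ (u : α) (j : ℤ), per x y (((x * y) ^ j) u) ∣ per x y u := fun u j => by
    refine (pow_apply_eq_self_iff (x := x) (y := y) _ _).mp ?_
    rw [← zpow_natCast, ← Equiv.Perm.mul_apply, ← zpow_add, add_comm, zpow_add, Equiv.Perm.mul_apply,
      zpow_natCast, pow_per]
  refine Nat.dvd_antisymm (key v i) ?_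
  have h := key (((x * y) ^ i) v) (-i)
  rwa [← Equiv.Perm.mul_apply, ← zpow_add, neg_add_cancel, zpow_zero, Equiv.Perm.one_apply] at h

theorem sameCycle_x {v w : α} (h : (x * y).SameCycle v w) : (x * y).SameCycle (x v) (x w) := by
  obtain ⟨i, rfl⟩ := h
  exact ⟨-i, (conj_zpow_apply hx hy i v).symm⟩

omit hx hy in
theorem self_mem (v : α) : v ∈ orbit x y v := Or.inl (Equiv.Perm.SameCycle.refl _ _)

theorem x_mem {v w : α} (h : w ∈ orbit x y v) : x w ∈ orbit x y v := by
  rcases h with h | h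
  · exact Or.inr (sameCycle_x hx hy h)
  · have := sameCycle_x hx hy h
    rw [hx] at this
    exact Or.inl this

omit hx hy in
theorem zpow_mem {v w : α} (h : w ∈ orbit x y v) (i : ℤ) : ((x * y) ^ i) w ∈ orbit x y v :=
  h.imp (fun h => Equiv.Perm.sameCycle_zpow_right.mpr h) fun h => Equiv.Perm.sameCycle_zpow_right.mpr h

omit hx hy in
theorem pow_mem {v w : α} (h : w ∈ orbit x y v) (i : ℕ) : ((x * y) ^ i) w ∈ orbit x y v := by
  have := zpow_mem h (i : ℤ)
  rwa [zpow_natCast] at this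

theorem orbit_eq {v w : α} (h : w ∈ orbit x y v) : orbit x y w = orbit x y v := by
  have key : ∀ {v w u : α}, w ∈ orbit x y v → u ∈ orbit x y w → u ∈ orbit x y v := by
    intro v w u hw hu
    rcases hu with ⟨i, rfl⟩ | ⟨i, rfl⟩
    · exact zpow_mem hw i
    · exact zpow_mem (x_mem hx hy hw) i
  have hback : v ∈ orbit x y w := by
    rcases h with h | h
    · exact Or.inl h.symm
    · have := sameCycle_x hx hy h.symm
      rw [hx] at this
      exact Or.inr this
  exact Set.ext fun u => ⟨fun hu => key h hu, fun hu => key hback hu⟩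

theorem ne_of_mem {v v' : α} (hne : v' ∉ orbit x y v) {p q : α} (hp : p ∈ orbit x y v)
    (hq : q ∈ orbit x y v') : p ≠ q := by
  rintro rfl
  apply hne
  rw [← orbit_eq hx hy hp, orbit_eq hx hy hq]
  exact self_mem v'

theorem per_of_mem {v w : α} (h : w ∈ orbit x y v) : per x y w = per x y v := by
  rcases h with ⟨i, rfl⟩ | ⟨i, rfl⟩
  · exact per_zpow hx hy v i
  · rw [per_zpow hx hy, per_x hx hy]

omit hx hy in
theorem exists_pow_of_sameCycle {v w : α} (h : (x * y).SameCycle v w) :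
    ∃ j, j < per x y v ∧ ((x * y) ^ j) v = w := by
  obtain ⟨i, rfl⟩ := h
  have hm := per_pos (x := x) (y := y) v
  refine ⟨(i % (per x y v : ℤ)).toNat, ?_, ?_⟩
  · have h1 := Int.emod_lt_of_pos i (show (0 : ℤ) < per x y v by exact_mod_cast hm)
    have h2 := Int.emod_nonneg i (show (per x y v : ℤ) ≠ 0 by omega)
    omega
  · rw [← zpow_natCast, Int.toNat_of_nonneg (Int.emod_nonneg i (by omega))]
    conv_rhs => rw [← Int.emod_add_mul_ediv i (per x y v : ℤ), zpow_add, Equiv.Perm.mul_apply]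
    rw [(zpow_apply_eq_self_iff v _).mpr (dvd_mul_right _ _)]

/-- Every point of the orbit is `σ^j v` or `σ^j (x v)`. -/
theorem exists_pow_of_mem {v w : α} (h : w ∈ orbit x y v) :
    ∃ j, j < per x y v ∧ (((x * y) ^ j) v = w ∨ ((x * y) ^ j) (x v) = w) := by
  rcases h with h | h
  · obtain ⟨j, hj, h⟩ := exists_pow_of_sameCycle h; exact ⟨j, hj, Or.inl h⟩
  · obtain ⟨j, hj, h⟩ := exists_pow_of_sameCycle h
    rw [per_x hx hy] at hj
    exact ⟨j, hj, Or.inr h⟩

end Orbits

end Cfsg.Agent.Lib.OddProductGraph
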