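import Cfsg.Agent.Lib.OddProductGraph.Squares

/-!
Any two conjugate involutions of a set with at least five points have a common neighbour for the
relation "the product has odd order".
-/

set_option autoImplicit false
set_option linter.style.haveILetI false
set_option linter.unusedSectionVars false

namespace Cfsg.Agent.Lib.OddProductGraph

variable {α : Type*} [Finite α] {x y : Equiv.Perm α}

/-- `x` and `y` fix equally many points of `S`. -/
def Balanced (x y : Equiv.Perm α) (S : Set α) : Prop :=
  {v | v ∈ S ∧ x v = v}.ncard = {v | v ∈ S ∧ y v = v}.ncard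

theorem Balanced.union {S S' : Set α} (h : Balanced x y S) (h' : Balanced x y S') (hd : Disjoint S S') :
    Balanced x y (S ∪ S') := by
  have key : ∀ f : Equiv.Perm α, {v | v ∈ S ∪ S' ∧ f v = v}.ncard =
      {v | v ∈ S ∧ f v = v}.ncard + {v | v ∈ S' ∧ f v = v}.ncard := fun f => by
    rw [← Set.ncard_union_eq (hd.mono (fun v hv => hv.1) fun v hv => hv.1)]
    congr 1
    ext v
    simp only [Set.mem_union, Set.mem_ofPred_eq]
    tauto
  unfold Balanced at *
  rw [key, key, h, h']

theorem Balanced.diff {S S' : Set α} (h : Balanced x y S) (h' : Balanced x y S') (hsub : S' ⊆ S) :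
    Balanced x y (S \ S') := by
  have key : ∀ f : Equiv.Perm α, {v | v ∈ S ∧ f v = v}.ncard =
      {v | v ∈ S' ∧ f v = v}.ncard + {v | v ∈ S \ S' ∧ f v = v}.ncard := fun f => by
    rw [← Set.ncard_union_eq (Disjoint.mono (fun v hv => hv.1) (fun v hv => hv.1) Set.disjoint_sdiff_right)]
    congr 1
    ext v
    simp only [Set.mem_union, Set.mem_ofPred_eq, Set.mem_sdiff]
    by_cases hv : v ∈ S'
    · simp [hv, hsub hv]
    · simp [hv]
  unfold Balanced at *
  rw [key, key, h'] at h
  omega

variable (hx : ∀ v, x (x v) = v) (hy : ∀ v, y (y v) = v)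
include hx hy

theorem x_pow_eq_iff (a : α) (j k : ℕ) :
    x (((x * y) ^ j) a) = ((x * y) ^ k) a ↔ ((x * y) ^ (j + k)) a = x a := by
  rw [pow_add, Equiv.Perm.mul_apply]
  constructor
  · intro h; rw [← h, conj_pow hx hy]
  · intro h
    apply ((x * y) ^ j).injective
    rw [conj_pow hx hy, h]

theorem sameCycle_of_mem {v u : α} (hu : u ∈ orbit x y v) (h : (x * y).SameCycle u (x u)) :
    (x * y).SameCycle v (x v) := by
  have key : ∀ w ∈ orbit x y u, (x * y).SameCycle u w := fun w hw => hw.elim id fun h' => h.trans h'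
  have h1 : v ∈ orbit x y u := by
    rw [orbit_eq hx hy hu]
    exact self_mem v
  exact (key v h1).symm.trans (key _ (x_mem hx hy h1))

theorem endA_sameCycle {a : α} (h : IsEndA x y a) : (x * y).SameCycle a (x a) :=
  ⟨1, by rw [zpow_one]; exact h.1.symm⟩

omit hx hy in
theorem endB_sameCycle {w : α} (h : IsEndB x y w) : (x * y).SameCycle w (x w) :=
  h.1.symm ▸ Equiv.Perm.SameCycle.refl _ w

theorem ncard_two (a : α) (hr : (x * y).SameCycle a (x a)) (hev : Even (per x y a)) (P : α → Prop)
    (hP : ∀ j, j < per x y a → (P (((x * y) ^ j) a) ↔ per x y a ∣ 2 * j)) :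
    {u | u ∈ orbit x y a ∧ P u}.ncard = 2 := by
  obtain ⟨r, hr'⟩ := hev
  have hm0 := per_pos (x := x) (y := y) a
  have hset : {u | u ∈ orbit x y a ∧ P u} = {a, ((x * y) ^ r) a} := by
    ext u
    constructor
    · rintro ⟨hu, hPu⟩
      obtain ⟨j, hj, rfl⟩ := orbit_refl hx hy hr hu
      obtain ⟨c, hc⟩ := (hP j hj).mp hPu
      have hc2 : c < 2 := Nat.lt_of_mul_lt_mul_left (a := per x y a) (by omega)
      interval_cases c
      · have : j = 0 := by omega
        exact Or.inl (by rw [this, pow_zero]; rfl)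
      · have : j = r := by omega
        exact Or.inr (by rw [this]; rfl)
    · rintro (rfl | rfl)
      · refine ⟨self_mem _, ?_⟩
        have := (hP 0 hm0).mpr (dvd_zero _)
        rwa [pow_zero] at this
      · exact ⟨pow_mem (self_mem a) r, (hP r (by omega)).mpr ⟨1, by omega⟩⟩
  rw [hset, Set.ncard_pair]
  intro h
  have := pow_inj (x := x) (y := y) (v := a) (i := 0) (j := r) hm0 (by omega) (by rw [pow_zero]; exact h)
  omega

omit hx hy in
theorem pow_ne_of_parity {a : α} (hev : Even (per x y a)) (k : ℕ) (hk : Odd k) :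
    ((x * y) ^ k) a ≠ a := fun h => by
  have := (pow_apply_eq_self_iff (x := x) (y := y) a k).mp h
  rw [Nat.odd_iff] at hk
  have h2 := (even_iff_two_dvd.mp hev).trans this
  omega

theorem endA_fixed {a : α} (h : IsEndA x y a) :
    {u | u ∈ orbit x y a ∧ x u = u}.ncard = 0 ∧ {u | u ∈ orbit x y a ∧ y u = u}.ncard = 2 := by
  refine ⟨?_, ?_⟩
  · rw [Set.ncard_eq_zero]
    refine Set.eq_empty_iff_forall_notMem.mpr ?_
    rintro u ⟨hu, hxu⟩
    obtain ⟨j, hj, rfl⟩ := orbit_refl hx hy (endA_sameCycle hx hy h) hu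
    have h1 := (x_pow_eq_iff hx hy a j j).mp hxu
    rw [h.1] at h1
    have h2 : ((x * y) ^ (per x y a - 1 + (j + j))) a = a := by
      rw [pow_add, Equiv.Perm.mul_apply, h1, ← Equiv.Perm.mul_apply, ← pow_succ,
        Nat.sub_add_cancel (per_pos a), pow_per]
    refine pow_ne_of_parity h.2 _ ?_ h2
    have := per_pos (x := x) (y := y) a
    have he := Nat.even_iff.mp h.2
    rw [Nat.odd_iff]; omega
  · refine ncard_two hx hy a (endA_sameCycle hx hy h) h.2 _ fun j hj => ?_
    have : ((x * y) ^ (j + 1)) a = (x * y) (((x * y) ^ j) a) := by rw [pow_succ']; rfl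
    rw [← isEndA_iff hx hy, ← this, x_pow_eq_iff hx hy, h.1]
    rw [show j + (j + 1) = 1 + 2 * j by omega, pow_add, pow_one, Equiv.Perm.mul_apply,
      (x * y).injective.eq_iff, pow_apply_eq_self_iff]

theorem endB_fixed {w : α} (h : IsEndB x y w) :
    {u | u ∈ orbit x y w ∧ x u = u}.ncard = 2 ∧ {u | u ∈ orbit x y w ∧ y u = u}.ncard = 0 := by
  refine ⟨?_, ?_⟩
  · refine ncard_two hx hy w (endB_sameCycle h) h.2 _ fun j hj => ?_
    rw [x_pow_eq_iff hx hy, h.1, pow_apply_eq_self_iff, two_mul]
  · rw [Set.ncard_eq_zero]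
    refine Set.eq_empty_iff_forall_notMem.mpr ?_
    rintro u ⟨hu, hyu⟩
    obtain ⟨j, hj, rfl⟩ := orbit_refl hx hy (endB_sameCycle h) hu
    have e : ((x * y) ^ (j + 1)) w = (x * y) (((x * y) ^ j) w) := by rw [pow_succ']; rfl
    rw [← isEndA_iff hx hy, ← e, x_pow_eq_iff hx hy, h.1] at hyu
    exact pow_ne_of_parity h.2 _ ⟨j, by omega⟩ hyu

theorem endB_not_mem_endA {a w : α} (ha : IsEndA x y a) (hw : IsEndB x y w) : w ∉ orbit x y a := by
  intro h
  have := (endA_fixed hx hy ha).1
  rw [Set.ncard_eq_zero] at this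
  exact Set.eq_empty_iff_forall_notMem.mp this w ⟨h, hw.1⟩

theorem balanced_cycle {v : α} (h : IsCyc x y v) : Balanced x y (orbit x y v) := by
  have h1 : {u | u ∈ orbit x y v ∧ x u = u} = ∅ := Set.eq_empty_iff_forall_notMem.mpr fun u hu =>
    h (sameCycle_of_mem hx hy hu.1 (hu.2.symm ▸ Equiv.Perm.SameCycle.refl _ u))
  have h2 : {u | u ∈ orbit x y v ∧ y u = u} = ∅ := Set.eq_empty_iff_forall_notMem.mpr fun u hu =>
    h (sameCycle_of_mem hx hy hu.1 ⟨1, by rw [zpow_one]; exact ((isEndA_iff hx hy u).mpr hu.2).symm⟩)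
  unfold Balanced
  rw [h1, h2]

theorem disjoint_orbit {v u : α} (h : u ∉ orbit x y v) : Disjoint (orbit x y v) (orbit x y u) :=
  Set.disjoint_left.mpr fun p hp hq => ne_of_mem hx hy h hp hq rfl

theorem balanced_pair {a w : α} (ha : IsEndA x y a) (hw : IsEndB x y w) :
    Balanced x y (orbit x y a ∪ orbit x y w) := by
  have hd := disjoint_orbit hx hy (endB_not_mem_endA hx hy ha hw)
  have key : ∀ f : Equiv.Perm α, {v | v ∈ orbit x y a ∪ orbit x y w ∧ f v = v}.ncard =
      {v | v ∈ orbit x y a ∧ f v = v}.ncard + {v | v ∈ orbit x y w ∧ f v = v}.ncard := fun f => by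
    rw [← Set.ncard_union_eq (hd.mono (fun v hv => hv.1) fun v hv => hv.1)]
    congr 1
    ext v
    simp only [Set.mem_union, Set.mem_ofPred_eq]
    tauto
  unfold Balanced
  rw [key, key, (endA_fixed hx hy ha).1, (endA_fixed hx hy ha).2, (endB_fixed hx hy hw).1,
    (endB_fixed hx hy hw).2]

theorem exists_end {u : α} (h : (x * y).SameCycle u (x u)) :
    (∃ w ∈ orbit x y u, x w = w ∧ Odd (per x y u)) ∨
      (Even (per x y u) ∧ ∃ e ∈ orbit x y u, IsEndA x y e ∨ IsEndB x y e) := by
  obtain ⟨k, hk, hk'⟩ := exists_pow_of_sameCycle h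
  have hfix : ∀ j, ((x * y) ^ (j + j)) u = x u → x (((x * y) ^ j) u) = ((x * y) ^ j) u := fun j hj =>
    (x_pow_eq_iff hx hy u j j).mpr hj
  rcases Nat.even_or_odd (per x y u) with hm | hm
  · refine Or.inr ⟨hm, ?_⟩
    rcases Nat.even_or_odd k with ⟨j, hj⟩ | ⟨j, hj⟩
    · refine ⟨_, pow_mem (self_mem u) j, Or.inr ⟨hfix j (hj ▸ hk'), ?_⟩⟩
      rwa [per_of_mem hx hy (pow_mem (self_mem u) j)]
    · refine ⟨_, pow_mem (self_mem u) j, Or.inl ⟨?_, by rwa [per_of_mem hx hy (pow_mem (self_mem u) j)]⟩⟩
      have e : ((x * y) ^ (j + 1)) u = (x * y) (((x * y) ^ j) u) := by rw [pow_succ']; rfl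
      rw [← e, x_pow_eq_iff hx hy, show j + (j + 1) = k by omega, hk']
  · refine Or.inl ?_
    rcases Nat.even_or_odd k with ⟨j, hj⟩ | hko
    · exact ⟨_, pow_mem (self_mem u) j, hfix j (hj ▸ hk'), hm⟩
    · obtain ⟨j, hj⟩ := hko.add_odd hm
      refine ⟨_, pow_mem (self_mem u) j, hfix j ?_, hm⟩
      rw [← hj, pow_add, Equiv.Perm.mul_apply, pow_per, hk']

theorem exists_both {S : Set α} (hS : Invariant x y S) (hb : Balanced x y S)
    (h : ∃ e ∈ S, IsEndA x y e ∨ IsEndB x y e) :
    ∃ a w, a ∈ S ∧ w ∈ S ∧ IsEndA x y a ∧ IsEndB x y w := by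
  have hA : ∀ a ∈ S, IsEndA x y a → ∃ w ∈ S, IsEndB x y w := by
    intro a ha hend
    by_contra hno
    push Not at hno
    have hodd : ∀ w ∈ S, x w = w → Odd (per x y w) := fun w hw hxw =>
      Nat.not_even_iff_odd.mp fun he => hno w hw ⟨hxw, he⟩
    have hle : {v | v ∈ S ∧ x v = v}.ncard ≤ ({v | v ∈ S ∧ y v = v} \ {a}).ncard := by
      refine Set.ncard_le_ncard_of_injOn (fun w => ((x * y) ^ (per x y w / 2)) w) ?_ ?_
      · rintro w ⟨hw, hxw⟩
        have ho := Nat.odd_iff.mp (hodd w hw hxw)
        refine ⟨⟨hS w hw (pow_mem (self_mem w) _), ?_⟩, ?_⟩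
        · have e : ((x * y) ^ (per x y w / 2 + 1)) w = (x * y) (((x * y) ^ (per x y w / 2)) w) := by
            rw [pow_succ']; rfl
          rw [← isEndA_iff hx hy, ← e, x_pow_eq_iff hx hy, hxw,
            show per x y w / 2 + (per x y w / 2 + 1) = per x y w by omega, pow_per]
        · intro hwa
          have h1 := per_of_mem hx hy (pow_mem (x := x) (y := y) (self_mem w) (per x y w / 2))
          rw [Set.mem_singleton_iff] at hwa
          rw [hwa] at h1
          have := Nat.even_iff.mp hend.2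
          omega
      · rintro w ⟨hw, -⟩ w' ⟨hw', -⟩ heq
        have h1 := per_of_mem hx hy (pow_mem (x := x) (y := y) (self_mem w) (per x y w / 2))
        have h2 := per_of_mem hx hy (pow_mem (x := x) (y := y) (self_mem w') (per x y w' / 2))
        simp only at heq
        rw [heq, h2] at h1
        rw [h1] at heq
        exact ((x * y) ^ (per x y w / 2)).injective heq
    have hmem : a ∈ {v | v ∈ S ∧ y v = v} := ⟨ha, (isEndA_iff hx hy a).mp hend.1⟩
    have hlt := Set.ncard_sdiff_singleton_lt_of_mem hmem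
    unfold Balanced at hb
    omega
  have hB : ∀ w ∈ S, IsEndB x y w → ∃ a ∈ S, IsEndA x y a := by
    intro w hw hend
    by_contra hno
    push Not at hno
    have hodd : ∀ a ∈ S, y a = a → Odd (per x y a) := fun a ha hya =>
      Nat.not_even_iff_odd.mp fun he => hno a ha ⟨(isEndA_iff hx hy a).mpr hya, he⟩
    have hle : {v | v ∈ S ∧ y v = v}.ncard ≤ ({v | v ∈ S ∧ x v = v} \ {w}).ncard := by
      refine Set.ncard_le_ncard_of_injOn (fun a => ((x * y) ^ (per x y a / 2 + 1)) a) ?_ ?_
      · rintro a ⟨ha, hya⟩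
        have ho := Nat.odd_iff.mp (hodd a ha hya)
        refine ⟨⟨hS a ha (pow_mem (self_mem a) _), ?_⟩, ?_⟩
        · rw [x_pow_eq_iff hx hy, (isEndA_iff hx hy a).mpr hya,
            show per x y a / 2 + 1 + (per x y a / 2 + 1) = 1 + per x y a by omega, pow_add, pow_one,
            Equiv.Perm.mul_apply, pow_per]
        · intro haw
          have h1 := per_of_mem hx hy (pow_mem (x := x) (y := y) (self_mem a) (per x y a / 2 + 1))
          rw [Set.mem_singleton_iff] at haw
          rw [haw] at h1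
          have := Nat.even_iff.mp hend.2
          omega
      · rintro a ⟨ha, -⟩ a' ⟨ha', -⟩ heq
        have h1 := per_of_mem hx hy (pow_mem (x := x) (y := y) (self_mem a) (per x y a / 2 + 1))
        have h2 := per_of_mem hx hy (pow_mem (x := x) (y := y) (self_mem a') (per x y a' / 2 + 1))
        simp only at heq
        rw [heq, h2] at h1
        rw [h1] at heq
        exact ((x * y) ^ (per x y a / 2 + 1)).injective heq
    have hmem : w ∈ {v | v ∈ S ∧ x v = v} := ⟨hw, hend.1⟩
    have hlt := Set.ncard_sdiff_singleton_lt_of_mem hmem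
    unfold Balanced at hb
    omega
  obtain ⟨e, he, h | h⟩ := h
  · obtain ⟨w, hw, hw'⟩ := hA e he h; exact ⟨e, w, he, hw, h, hw'⟩
  · obtain ⟨a, ha, ha'⟩ := hB e he h; exact ⟨a, e, ha, he, ha', h⟩

theorem solved_of_piece {S P : Set α} (hS : Invariant x y S) (hP : Invariant x y P) (hsub : P ⊆ S)
    (h1 : Solved x y P) (h2 : Solved x y (S \ P)) : Solved x y S := by
  have := Solved.union hx hy hP (hS.diff hx hy hP) Set.disjoint_sdiff_right h1 h2
  rwa [Set.union_sdiff_cancel hsub] at this

theorem solved_rec : ∀ (N : ℕ) (S : Set α), S.ncard < N → Invariant x y S → Balanced x y S →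
    (∀ v ∈ S, IsSquare x y v → ∃ v' ∈ S, IsSquare x y v' ∧ v' ∉ orbit x y v) → Solved x y S := by
  intro N
  induction N with
  | zero => intro S hS; omega
  | succ N ih =>
    intro S hN hS hb h4
    have hrec : ∀ P, P ⊆ S → P.Nonempty → Invariant x y P → Balanced x y P → Solved x y P →
        (∀ v ∈ S \ P, IsSquare x y v → ∃ v' ∈ S \ P, IsSquare x y v' ∧ v' ∉ orbit x y v) →
        Solved x y S := by
      intro P hsub hne hP hPb hPs h
      refine solved_of_piece hx hy hS hP hsub hPs
        (ih _ ?_ (hS.diff hx hy hP) (hb.diff hPb hsub) h)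
      have h1 : (S \ P).ncard < S.ncard := Set.ncard_lt_ncard
        ⟨fun v hv => hv.1, fun h => (h (hsub hne.some_mem)).2 hne.some_mem⟩
      omega
    by_cases hsq : ∃ v ∈ S, IsSquare x y v
    · obtain ⟨v, hvS, hv⟩ := hsq
      obtain ⟨u, huS, hu, huv⟩ := h4 v hvS hv
      have hd := disjoint_orbit hx hy huv
      by_cases h3 : ∃ w ∈ S \ (orbit x y v ∪ orbit x y u), IsSquare x y w ∧
          ∀ w' ∈ S \ (orbit x y v ∪ orbit x y u), IsSquare x y w' → w' ∈ orbit x y w
      · obtain ⟨w, ⟨hwS, hwn⟩, hw, hall⟩ := h3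
        rw [Set.mem_union, not_or] at hwn
        have hd2 := disjoint_orbit hx hy hwn.2
        refine hrec (orbit x y v ∪ (orbit x y u ∪ orbit x y w))
          (Set.union_subset (hS v hvS) (Set.union_subset (hS u huS) (hS w hwS))) ⟨v, Or.inl (self_mem v)⟩
          ((invariant_orbit hx hy v).union ((invariant_orbit hx hy u).union (invariant_orbit hx hy w)))
          ((balanced_cycle hx hy hv.2).union ((balanced_cycle hx hy hu.2).union (balanced_cycle hx hy hw.2) hd2)
            (disjoint_sup_right.mpr ⟨hd, disjoint_orbit hx hy hwn.1⟩))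
          (solved_three_squares hx hy hv hu hw huv hwn.1 hwn.2) ?_
        rintro z ⟨hzS, hzn⟩ hz
        simp only [Set.mem_union, not_or] at hzn
        exact absurd (hall z ⟨hzS, fun h => h.elim hzn.1 hzn.2.1⟩ hz) hzn.2.2
      · push Not at h3
        refine hrec (orbit x y v ∪ orbit x y u) (Set.union_subset (hS v hvS) (hS u huS))
          ⟨v, Or.inl (self_mem v)⟩ ((invariant_orbit hx hy v).union (invariant_orbit hx hy u))
          ((balanced_cycle hx hy hv.2).union (balanced_cycle hx hy hu.2) hd)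
          (solved_square_cycle_even hx hy hv hu.2 (by rw [hu.1]; exact even_two) huv) ?_
        exact h3
    push Not at hsq
    by_cases hend : ∃ e ∈ S, IsEndA x y e ∨ IsEndB x y e
    · obtain ⟨a, w, haS, hwS, ha, hw⟩ := exists_both hx hy hS hb hend
      refine hrec (orbit x y a ∪ orbit x y w) (Set.union_subset (hS a haS) (hS w hwS))
        ⟨a, Or.inl (self_mem a)⟩ ((invariant_orbit hx hy a).union (invariant_orbit hx hy w))
        (balanced_pair hx hy ha hw) (solved_pair hx hy ha hw (endB_not_mem_endA hx hy ha hw)) ?_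
      intro z hz hz'
      exact absurd hz' (hsq z hz.1)
    by_cases hcyc : ∃ u ∈ S, IsCyc x y u ∧ Even (per x y u)
    · obtain ⟨u, huS, hu, hev⟩ := hcyc
      have h4' : 4 ≤ per x y u := by
        have h1 := per_pos (x := x) (y := y) u
        have h2 : per x y u ≠ 2 := fun h => hsq u huS ⟨h, hu⟩
        obtain ⟨r, hr⟩ := hev
        omega
      refine hrec (orbit x y u) (hS u huS) ⟨u, self_mem u⟩ (invariant_orbit hx hy u)
        (balanced_cycle hx hy hu) (solved_cycle hx hy hu hev h4') ?_
      intro z hz hz'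
      exact absurd hz' (hsq z hz.1)
    refine ⟨1, fun v _ => rfl, ⟨1, odd_one, one_pow 1⟩, fun v => rfl, fun v hv => ?_⟩
    refine ⟨per x y v, Nat.not_even_iff_odd.mp fun hev => ?_, by rw [one_mul, pow_per]⟩
    by_cases hc : IsCyc x y v
    · exact hcyc ⟨v, hv, hc, hev⟩
    rcases exists_end hx hy (not_not.mp hc) with ⟨w, -, -, ho⟩ | ⟨-, e, he, he'⟩
    · exact Nat.not_even_iff_odd.mpr ho hev
    · exact hend ⟨e, hS v hv he, he'⟩

theorem solved_univ (hn : 5 ≤ Nat.card α) (hb : Balanced x y (Set.univ : Set α)) :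
    Solved x y (Set.univ : Set α) := by
  have hU : Invariant x y (Set.univ : Set α) := fun v _ => Set.subset_univ _
  by_cases hone : ∃ v, IsSquare x y v ∧ ∀ v', IsSquare x y v' → v' ∈ orbit x y v
  · obtain ⟨v, hv, hall⟩ := hone
    obtain ⟨u, hu⟩ : ∃ u, u ∉ orbit x y v := by
      by_contra hno
      push Not at hno
      obtain ⟨-, -, -, -, hcov⟩ := quad_spec hx hy hv
      have := Nat.card_le_card_of_surjective (quad x y v) fun w => hcov w (hno w)
      rw [Nat.card_fin] at this
      omega
    have hrest : ∀ P, Invariant x y P → orbit x y v ⊆ P → Balanced x y P → Solved x y P →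
        Solved x y (Set.univ : Set α) := by
      intro P hP hvP hPb hPs
      refine solved_of_piece hx hy hU hP (Set.subset_univ _) hPs
        (solved_rec hx hy _ _ (Nat.lt_succ_self _) (hU.diff hx hy hP)
          (hb.diff hPb (Set.subset_univ _)) ?_)
      intro z hz hz'
      exact absurd (hvP (hall z hz')) hz.2
    have hd := disjoint_orbit hx hy hu
    by_cases hc : IsCyc x y u
    · refine hrest (orbit x y v ∪ orbit x y u) ((invariant_orbit hx hy v).union (invariant_orbit hx hy u))
        Set.subset_union_left ((balanced_cycle hx hy hv.2).union (balanced_cycle hx hy hc) hd) ?_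
      rcases Nat.even_or_odd (per x y u) with he | ho
      · exact solved_square_cycle_even hx hy hv hc he hu
      · exact solved_square_cycle_odd hx hy hv hc ho hu
    rcases exists_end hx hy (not_not.mp hc) with ⟨w, hw, hxw, ho⟩ | ⟨-, e, he, he'⟩
    · have hwv : w ∉ orbit x y v := fun h => ne_of_mem hx hy hu h hw rfl
      have hb' : Balanced x y (orbit x y w) := by
        rw [← per_of_mem hx hy hw] at ho
        have h1 := Nat.odd_iff.mp ho
        have hr : (x * y).SameCycle w (x w) := hxw.symm ▸ Equiv.Perm.SameCycle.refl _ w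
        have hX : {z | z ∈ orbit x y w ∧ x z = z} = {w} := by
          ext z
          constructor
          · rintro ⟨hz, hxz⟩
            obtain ⟨j, hj, rfl⟩ := orbit_refl hx hy hr hz
            rw [x_pow_eq_iff hx hy, hxw, pow_apply_eq_self_iff] at hxz
            obtain ⟨c, hc'⟩ := hxz
            have hc2 : c < 2 := Nat.lt_of_mul_lt_mul_left (a := per x y w) (by omega)
            interval_cases c
            · have : j = 0 := by omega
              rw [this, pow_zero]; rfl
            · omega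
          · rintro rfl; exact ⟨self_mem _, hxw⟩
        have hY : {z | z ∈ orbit x y w ∧ y z = z} = {((x * y) ^ (per x y w / 2)) w} := by
          ext z
          have e : ∀ j, ((x * y) ^ (j + 1)) w = (x * y) (((x * y) ^ j) w) := fun j => by rw [pow_succ']; rfl
          constructor
          · rintro ⟨hz, hyz⟩
            obtain ⟨j, hj, rfl⟩ := orbit_refl hx hy hr hz
            rw [← isEndA_iff hx hy, ← e, x_pow_eq_iff hx hy, hxw, pow_apply_eq_self_iff] at hyz
            obtain ⟨c, hc'⟩ := hyz
            have hc2 : c < 2 := Nat.lt_of_mul_lt_mul_left (a := per x y w) (by omega)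
            interval_cases c
            · omega
            · rw [Set.mem_singleton_iff, show j = per x y w / 2 by omega]
          · rintro rfl
            refine ⟨pow_mem (self_mem w) _, ?_⟩
            rw [← isEndA_iff hx hy, ← e, x_pow_eq_iff hx hy, hxw,
              show per x y w / 2 + (per x y w / 2 + 1) = per x y w by omega, pow_per]
        unfold Balanced
        rw [hX, hY, Set.ncard_singleton, Set.ncard_singleton]
      exact hrest (orbit x y v ∪ orbit x y w)
        ((invariant_orbit hx hy v).union (invariant_orbit hx hy w))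
        Set.subset_union_left ((balanced_cycle hx hy hv.2).union hb' (disjoint_orbit hx hy hwv))
        (solved_square_fixed hx hy hv hxw (per_of_mem hx hy hw ▸ ho) hwv)
    · obtain ⟨a, w, -, -, ha, hw⟩ := exists_both hx hy hU hb ⟨e, Set.mem_univ e, he'⟩
      have hav : a ∉ orbit x y v := fun h => hv.2 (sameCycle_of_mem hx hy h (endA_sameCycle hx hy ha))
      have hwv : w ∉ orbit x y v := fun h => hv.2 (sameCycle_of_mem hx hy h (endB_sameCycle hw))
      refine hrest (orbit x y v ∪ (orbit x y a ∪ orbit x y w))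
        ((invariant_orbit hx hy v).union ((invariant_orbit hx hy a).union (invariant_orbit hx hy w)))
        Set.subset_union_left
        ((balanced_cycle hx hy hv.2).union (balanced_pair hx hy ha hw)
          (disjoint_sup_right.mpr ⟨disjoint_orbit hx hy hav, disjoint_orbit hx hy hwv⟩))
        (solved_square_pair hx hy hv ha hw (endB_not_mem_endA hx hy ha hw) hav hwv)
  · push Not at hone
    refine solved_rec hx hy _ _ (Nat.lt_succ_self _) hU hb fun v _ hv => ?_
    obtain ⟨v', h1, h2⟩ := hone v hv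
    exact ⟨v', Set.mem_univ _, h1, h2⟩

end Cfsg.Agent.Lib.OddProductGraph

namespace Cfsg.Agent.Lib.OddProductGraph

/-- Two conjugate involutions are joined by a third one with both products of odd order. -/
theorem exists_middle {α : Type*} [Finite α] (hn : 5 ≤ Nat.card α) {x y : Equiv.Perm α}
    (hx : x * x = 1) (hy : y * y = 1) (hconj : IsConj x y) :
    ∃ z : Equiv.Perm α, IsConj x z ∧ Odd (orderOf (x * z)) ∧ Odd (orderOf (z * y)) := by
  have hx' : ∀ v, x (x v) = v := fun v => Equiv.congr_fun hx v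
  have hy' : ∀ v, y (y v) = v := fun v => Equiv.congr_fun hy v
  have hb : Balanced x y (Set.univ : Set α) := by
    obtain ⟨g, hg⟩ := isConj_iff.mp hconj
    have h : (fun v => g v) '' {v | v ∈ (Set.univ : Set α) ∧ x v = v} =
        {v | v ∈ (Set.univ : Set α) ∧ y v = v} := by
      ext w
      constructor
      · rintro ⟨v, ⟨-, hv⟩, rfl⟩
        refine ⟨trivial, ?_⟩
        rw [← hg, Equiv.Perm.mul_apply, Equiv.Perm.mul_apply, Equiv.Perm.inv_def, Equiv.symm_apply_apply, hv]
      · rintro ⟨-, hw⟩
        refine ⟨g⁻¹ w, ⟨trivial, ?_⟩, (Equiv.apply_symm_apply g w)⟩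
        rw [← hg, Equiv.Perm.mul_apply, Equiv.Perm.mul_apply] at hw
        exact g.injective (hw.trans ((Equiv.apply_symm_apply g w)).symm)
    unfold Balanced
    rw [← h, Set.ncard_image_of_injective _ g.injective]
  obtain ⟨T, -, ⟨e, he, hTe⟩, hTx, hp⟩ := solved_univ hx' hy' hn hb
  have hTxT : T * x * T = x := Equiv.ext hTx
  refine ⟨T * x, ?_, ?_, ?_⟩
  · obtain ⟨k, rfl⟩ := he
    have hpow : ∀ i, T ^ i * x * T ^ i = x := by
      intro i
      induction i with
      | zero => simp
      | succ j ih =>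
        calc T ^ (j + 1) * x * T ^ (j + 1) = T ^ j * (T * x * T) * T ^ j := by
              nth_rewrite 2 [pow_succ']; rw [pow_succ]; group
          _ = x := by rw [hTxT, ih]
    refine isConj_iff.mpr ⟨T ^ (k + 1), mul_inv_eq_iff_eq_mul.mpr ?_⟩
    rw [pow_succ', mul_assoc, mul_assoc]
    congr 1
    rw [← pow_succ']
    calc T ^ k * x = T ^ k * x * T ^ (2 * k + 1) := by rw [hTe, mul_one]
      _ = (T ^ k * x * T ^ k) * T ^ (k + 1) := by
        rw [mul_assoc (T ^ k * x), ← pow_add, show k + (k + 1) = 2 * k + 1 by omega]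
      _ = x * T ^ (k + 1) := by rw [hpow]
  · have h : x * (T * x) = T⁻¹ := by
      rw [eq_inv_iff_mul_eq_one]
      calc x * (T * x) * T = x * (T * x * T) := by group
        _ = 1 := by rw [hTxT, hx]
    rw [h, orderOf_inv]
    exact he.of_dvd_nat (orderOf_dvd_of_pow_eq_one hTe)
  · rw [mul_assoc]
    exact odd_orderOf fun v => hp v (Set.mem_univ v)

end Cfsg.Agent.Lib.OddProductGraph
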