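import Cfsg.Agent.Lib.OddProductGraph.Basic

/-!
The local modifications for the bad orbits of two involutions.
-/

set_option autoImplicit false
set_option linter.style.haveILetI false
set_option linter.unusedSectionVars false

namespace Cfsg.Agent.Lib.OddProductGraph

variable {α : Type*}

/-- A modification of `x` supported in `S` that repairs every point of `S`. -/
def Solved (x y : Equiv.Perm α) (S : Set α) : Prop :=
  ∃ T : Equiv.Perm α, (∀ v, v ∉ S → T v = v) ∧ (∃ e : ℕ, Odd e ∧ T ^ e = 1) ∧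
    (∀ v, T (x (T v)) = x v) ∧ ∀ v ∈ S, OddPer (T * (x * y)) v

/-- A union of orbits. -/
def Invariant (x y : Equiv.Perm α) (S : Set α) : Prop := ∀ v ∈ S, orbit x y v ⊆ S

/-- The orbit of `v` is a cycle: `x` moves `v` out of its orbit under the product. -/
def IsCyc (x y : Equiv.Perm α) (v : α) : Prop := ¬ (x * y).SameCycle v (x v)

/-- The orbit of `v` is a square. -/
def IsSquare (x y : Equiv.Perm α) (v : α) : Prop := per x y v = 2 ∧ IsCyc x y v

/-- An end of an even path fixed by `y`. -/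
def IsEndA (x y : Equiv.Perm α) (a : α) : Prop := x a = (x * y) a ∧ Even (per x y a)

/-- An end of an even path fixed by `x`. -/
def IsEndB (x y : Equiv.Perm α) (w : α) : Prop := x w = w ∧ Even (per x y w)

variable [Finite α] {x y : Equiv.Perm α} (hx : ∀ v, x (x v) = v) (hy : ∀ v, y (y v) = v)
include hx hy

theorem invariant_orbit (v : α) : Invariant x y (orbit x y v) := fun w hw => (orbit_eq hx hy hw).le

omit hx hy in
theorem Invariant.union {S S' : Set α} (h : Invariant x y S) (h' : Invariant x y S') :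
    Invariant x y (S ∪ S') := fun v hv => hv.elim
  (fun hv => (h v hv).trans Set.subset_union_left) fun hv => (h' v hv).trans Set.subset_union_right

theorem Invariant.diff {S S' : Set α} (h : Invariant x y S) (h' : Invariant x y S') :
    Invariant x y (S \ S') := fun v hv w hw => ⟨h v hv.1 hw, fun hw' => hv.2 (h' w hw' (by
  rw [orbit_eq hx hy hw]; exact self_mem v))⟩

theorem isEndA_iff (a : α) : x a = (x * y) a ↔ y a = a := by
  rw [Equiv.Perm.mul_apply]
  exact ⟨fun h => (x.injective h).symm, fun h => by rw [h]⟩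

theorem orbit_refl {a : α} (h : (x * y).SameCycle a (x a)) {w : α} (hw : w ∈ orbit x y a) :
    ∃ j, j < per x y a ∧ ((x * y) ^ j) a = w :=
  exists_pow_of_sameCycle (hw.elim id fun h' => h.trans h')

theorem square_facts {v : α} (h : IsSquare x y v) :
    ((x * y) ((x * y) v) = v ∧ (x * y) ((x * y) (x v)) = x v ∧ x ((x * y) v) = (x * y) (x v)) ∧
      Function.Injective (![v, x v, (x * y) v, (x * y) (x v)] : Fin 4 → α) ∧
      (∀ i, (![v, x v, (x * y) v, (x * y) (x v)] : Fin 4 → α) i ∈ orbit x y v) ∧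
      ∀ w ∈ orbit x y v, ∃ i, (![v, x v, (x * y) v, (x * y) (x v)] : Fin 4 → α) i = w := by
  obtain ⟨hper, hcyc⟩ := h
  have h2 : ∀ u : α, u ∈ orbit x y v → (x * y) ((x * y) u) = u := fun u hu => by
    have := pow_per (x := x) (y := y) u
    rwa [per_of_mem hx hy hu, hper, pow_two, Equiv.Perm.mul_apply] at this
  have hv := h2 v (self_mem v)
  have hxv := h2 (x v) (x_mem hx hy (self_mem v))
  have hxc : x ((x * y) v) = (x * y) (x v) := by
    rw [conj_c hx hy, Equiv.Perm.inv_eq_iff_eq, hxv]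
  have h1 : (x * y) v ≠ v := fun h => by
    have := (pow_apply_eq_self_iff (x := x) (y := y) v 1).mp (by rw [pow_one]; exact h)
    rw [hper] at this
    omega
  have h1' : (x * y) (x v) ≠ x v := fun h => h1 (x.injective (hxc.trans h))
  have hn : ∀ i j : ℕ, ((x * y) ^ i) v ≠ ((x * y) ^ j) (x v) := fun i j h => hcyc
    (Equiv.Perm.sameCycle_pow_right.mp (h ▸ Equiv.Perm.sameCycle_pow_right.mpr
      (Equiv.Perm.SameCycle.refl _ v)))
  have n00 : v ≠ x v := by simpa using hn 0 0
  have n01 : v ≠ (x * y) (x v) := by simpa using hn 0 1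
  have n10 : (x * y) v ≠ x v := by simpa using hn 1 0
  have n11 : (x * y) v ≠ (x * y) (x v) := by simpa using hn 1 1
  refine ⟨⟨hv, hxv, hxc⟩, ?_, ?_, ?_⟩
  · intro i j hij
    fin_cases i <;> fin_cases j <;> first
      | rfl
      | exact absurd hij n00 | exact absurd hij.symm n00
      | exact absurd hij n01 | exact absurd hij.symm n01
      | exact absurd hij n10 | exact absurd hij.symm n10
      | exact absurd hij n11 | exact absurd hij.symm n11
      | exact absurd hij h1 | exact absurd hij.symm h1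
      | exact absurd hij h1' | exact absurd hij.symm h1'
  · intro i
    have hc := fun (u : α) (hu : u ∈ orbit x y v) =>
      (by have := pow_mem hu 1; rwa [pow_one] at this : (x * y) u ∈ orbit x y v)
    fin_cases i
    exacts [self_mem v, x_mem hx hy (self_mem v), hc _ (self_mem v), hc _ (x_mem hx hy (self_mem v))]
  · intro w hw
    obtain ⟨j, hj, h⟩ := exists_pow_of_mem hx hy hw
    rw [hper] at hj
    interval_cases j <;> rcases h with h | h
    exacts [⟨0, by simpa using h⟩, ⟨1, by simpa using h⟩, ⟨2, by simpa using h⟩, ⟨3, by simpa using h⟩]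

theorem Solved.union {S S' : Set α} (h1 : Invariant x y S) (h2 : Invariant x y S') (hd : Disjoint S S')
    (hS : Solved x y S) (hS' : Solved x y S') : Solved x y (S ∪ S') := by
  obtain ⟨T, hT, ⟨e, he, hTe⟩, hTx, hTp⟩ := hS
  obtain ⟨U, hU, ⟨f, hf, hUf⟩, hUx, hUp⟩ := hS'
  have hTS : ∀ v, T v ∈ S ↔ v ∈ S := by
    intro v
    constructor
    · intro hv
      by_contra hv'
      rw [hT v hv'] at hv
      exact hv' hv
    · intro hv
      by_contra hv'
      exact hv' (by rw [T.injective (hT _ hv')]; exact hv)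
  have hUS : ∀ v, U v ∈ S' ↔ v ∈ S' := by
    intro v
    constructor
    · intro hv
      by_contra hv'
      rw [hU v hv'] at hv
      exact hv' hv
    · intro hv
      by_contra hv'
      exact hv' (by rw [U.injective (hU _ hv')]; exact hv)
  have hnot : ∀ v ∈ S, v ∉ S' := fun v hv => Set.disjoint_left.mp hd hv
  have hnot' : ∀ v ∈ S', v ∉ S := fun v hv => Set.disjoint_right.mp hd hv
  have hcomm : Commute T U := Equiv.ext fun v => by
    show T (U v) = U (T v)
    by_cases hv : v ∈ S
    · rw [hU v (hnot v hv), hU _ (hnot _ ((hTS v).mpr hv))]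
    · rw [hT v hv]
      by_cases hv' : v ∈ S'
      · rw [hT _ (hnot' _ ((hUS v).mpr hv'))]
      · rw [hU v hv', hT v hv]
  have hA : ∀ v, v ∈ S → (T * U) v = T v := fun v hv => by
    rw [Equiv.Perm.mul_apply, hU v (hnot v hv)]
  have hB : ∀ v, v ∈ S' → (T * U) v = U v := fun v hv => by
    rw [hcomm.eq, Equiv.Perm.mul_apply, hT v (hnot' v hv)]
  refine ⟨T * U, fun v hv => ?_, ⟨e * f, he.mul hf, ?_⟩, fun v => ?_, fun v hv => ?_⟩
  · rw [Set.mem_union, not_or] at hv
    rw [Equiv.Perm.mul_apply, hU v hv.2, hT v hv.1]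
  · rw [hcomm.mul_pow, pow_mul, hTe, one_pow, mul_comm, pow_mul, hUf, one_pow, one_mul]
  · by_cases hv : v ∈ S
    · have h' : x (T v) ∈ S := h1 _ ((hTS v).mpr hv) (x_mem hx hy (self_mem _))
      rw [hA v hv, hA _ h', hTx]
    · by_cases hv' : v ∈ S'
      · have h' : x (U v) ∈ S' := h2 _ ((hUS v).mpr hv') (x_mem hx hy (self_mem _))
        rw [hB v hv', hB _ h', hUx]
      · rw [Equiv.Perm.mul_apply, Equiv.Perm.mul_apply, hU v hv', hT v hv]
        have hxv : x v ∉ S ∧ x v ∉ S' := by
          constructor <;> intro h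
          · exact hv (by simpa [hx] using h1 _ h (x_mem hx hy (self_mem _)))
          · exact hv' (by simpa [hx] using h2 _ h (x_mem hx hy (self_mem _)))
        rw [hU _ hxv.2, hT _ hxv.1]
  · have hc : ∀ {W : Set α}, Invariant x y W → ∀ w ∈ W, (x * y) w ∈ W := fun hW w hw =>
      hW w hw (by simpa using pow_mem (x := x) (y := y) (self_mem w) 1)
    rcases hv with hv | hv
    · obtain ⟨k, hk, hfix⟩ := hTp v hv
      refine ⟨k, hk, ?_⟩
      have key : ∀ i, ((T * U * (x * y)) ^ i) v = ((T * (x * y)) ^ i) v ∧ ((T * (x * y)) ^ i) v ∈ S := by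
        intro i
        induction i with
        | zero => exact ⟨rfl, hv⟩
        | succ i ih =>
          rw [pow_succ', pow_succ', Equiv.Perm.mul_apply, ih.1, Equiv.Perm.mul_apply, hA _ (hc h1 _ ih.2)]
          exact ⟨rfl, (hTS _).mpr (hc h1 _ ih.2)⟩
      rw [(key k).1, hfix]
    · obtain ⟨k, hk, hfix⟩ := hUp v hv
      refine ⟨k, hk, ?_⟩
      have key : ∀ i, ((T * U * (x * y)) ^ i) v = ((U * (x * y)) ^ i) v ∧ ((U * (x * y)) ^ i) v ∈ S' := by
        intro i
        induction i with
        | zero => exact ⟨rfl, hv⟩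
        | succ i ih =>
          rw [pow_succ', pow_succ', Equiv.Perm.mul_apply, ih.1, Equiv.Perm.mul_apply, hB _ (hc h2 _ ih.2)]
          exact ⟨rfl, (hUS _).mpr (hc h2 _ ih.2)⟩
      rw [(key k).1, hfix]

theorem solved_pair {a w : α} (ha : IsEndA x y a) (hw : IsEndB x y w) (hne : w ∉ orbit x y a) :
    Solved x y (orbit x y a ∪ orbit x y w) := by
  obtain ⟨hxa, hma⟩ := ha
  obtain ⟨hxw, hmw⟩ := hw
  set σ := x * y
  set m := per x y a with hm
  set q := per x y w with hq
  have hm0 := per_pos (x := x) (y := y) a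
  have hq0 := per_pos (x := x) (y := y) w
  have hm2 : 2 ≤ m := by rcases hma with ⟨r, hr⟩; omega
  have hane : a ≠ σ a := fun h => by
    have := (pow_apply_eq_self_iff (x := x) (y := y) a 1).mp (by rw [pow_one]; exact h.symm)
    have := Nat.le_of_dvd one_pos this
    omega
  have hσa : σ a ∈ orbit x y a := by
    have := pow_mem (x := x) (y := y) (self_mem a) 1
    rwa [pow_one] at this
  have hwa : ∀ u ∈ orbit x y a, u ≠ w := fun u hu => ne_of_mem hx hy hne hu (self_mem w)
  let ι : Fin 3 → α := ![a, σ a, w]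
  have hι : Function.Injective ι := by
    have h0 := hwa a (self_mem a)
    have h1 := hwa _ hσa
    intro i j hij
    fin_cases i <;> fin_cases j <;> first
      | rfl
      | exact absurd hij h0 | exact absurd hij.symm h0
      | exact absurd hij h1 | exact absurd hij.symm h1
      | exact absurd hij hane | exact absurd hij.symm hane
  obtain ⟨T, hT, hT', hTe, hTx⟩ := exists_twist hx ι hι (List.formPerm [0, 2, 1]) (Equiv.swap 0 1)
    (fun i => by
      fin_cases i
      · exact hxa
      · show x (σ a) = a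
        rw [← hxa, hx]
      · exact hxw)
    (by decide) (e := 3) (by decide) (by decide)
  have hsupp : ∀ v, v ∉ orbit x y a ∪ orbit x y w → T v = v := by
    intro v hv
    apply hT'
    rintro ⟨i, rfl⟩
    apply hv
    fin_cases i
    exacts [Or.inl (self_mem a), Or.inl hσa, Or.inr (self_mem w)]
  refine ⟨T, hsupp, hTe, hTx, ?_⟩
  have hfixa : (T * σ) a = a := hT 1
  have s1 := segment T σ (σ a) (m - 1) fun i hi him => hT' _ (by
    rintro ⟨k, hk⟩
    have e : (σ ^ i) (σ a) = (σ ^ (i + 1)) a := by rw [pow_succ]; rfl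
    rw [e] at hk
    fin_cases k
    · have := pow_inj (x := x) (y := y) (v := a) (i := 0) (j := i + 1) hm0 (by omega) (by rw [pow_zero]; exact hk)
      omega
    · have := pow_inj (x := x) (y := y) (v := a) (i := 1) (j := i + 1) (by omega) (by omega)
          (by rw [pow_one]; exact hk)
      omega
    · exact hwa _ (pow_mem (self_mem a) _) hk.symm)
  have s2 := segment T σ w q fun i hi hiq => hT' _ (by
    rintro ⟨k, hk⟩
    fin_cases k
    · exact hwa a (self_mem a) (ne_of_mem hx hy hne (self_mem a) (pow_mem (self_mem w) i) hk).elim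
    · exact (ne_of_mem hx hy hne hσa (pow_mem (self_mem w) i) hk).elim
    · have := pow_inj (x := x) (y := y) (v := w) (i := 0) (j := i) hq0 hiq (by rw [pow_zero]; exact hk)
      omega)
  have e1 : ((T * σ) ^ (m - 1)) (σ a) = w := by
    rw [s1.2 (by omega)]
    have : (σ ^ (m - 1)) (σ a) = a := by
      rw [← Equiv.Perm.mul_apply, ← pow_succ, Nat.sub_add_cancel (by omega), hm, pow_per]
    rw [this]
    exact hT 0
  have e2 : ((T * σ) ^ q) w = σ a := by
    rw [s2.2 hq0, hq, pow_per]
    exact hT 2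
  obtain ⟨p1, p2⟩ := OddPer.of_two e1 e2 (by
    rw [Nat.odd_iff]; rw [Nat.even_iff] at hma hmw; omega)
  intro v hv
  rcases hv with hv | hv
  · obtain ⟨j, hj, rfl⟩ := orbit_refl hx hy ⟨1, by rw [zpow_one]; exact hxa.symm⟩ hv
    cases j with
    | zero => exact OddPer.fixed hfixa
    | succ i =>
      have := p1.pow i
      rwa [s1.1 i (by omega), ← Equiv.Perm.mul_apply, ← pow_succ] at this
  · obtain ⟨j, hj, rfl⟩ := orbit_refl hx hy (hxw.symm ▸ Equiv.Perm.SameCycle.refl _ w) hv
    have := p2.pow j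
    rwa [s2.1 j hj] at this

theorem solved_cycle {u : α} (hcyc : IsCyc x y u) (hev : Even (per x y u)) (h4 : 4 ≤ per x y u) :
    Solved x y (orbit x y u) := by
  set σ := x * y
  set m := per x y u with hm
  have hmx : per x y (x u) = m := per_x hx hy u
  have hn : ∀ i j : ℕ, (σ ^ i) u ≠ (σ ^ j) (x u) := fun i j h => hcyc
    (Equiv.Perm.sameCycle_pow_right.mp (h ▸ Equiv.Perm.sameCycle_pow_right.mpr
      (Equiv.Perm.SameCycle.refl _ u)))
  have hi : ∀ i j : ℕ, i < m → j < m → (σ ^ i) u = (σ ^ j) u → i = j := fun i j h1 h2 h => pow_inj h1 h2 h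
  have hi' : ∀ i j : ℕ, i < m → j < m → (σ ^ i) (x u) = (σ ^ j) (x u) → i = j := fun i j h1 h2 h =>
    pow_inj (hmx.symm ▸ h1) (hmx.symm ▸ h2) h
  have hxpow : ∀ i, i ≤ m → x ((σ ^ i) u) = (σ ^ (m - i)) (x u) := fun i hi => by
    apply (σ ^ i).injective
    rw [conj_pow hx hy, ← Equiv.Perm.mul_apply, ← pow_add, Nat.add_sub_cancel' hi, ← hmx, pow_per]
  -- `σ^j (x u) = x (σ^(m-j) u)`
  let ι : Fin 6 → α := ![(σ ^ 0) u, (σ ^ (m - 1)) u, (σ ^ (m - 1)) (x u), (σ ^ 0) (x u), (σ ^ 1) u,
    (σ ^ 1) (x u)]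
  have hι : Function.Injective ι := by
    intro i j hij
    fin_cases i <;> fin_cases j <;> first
      | rfl
      | exact absurd hij (hn _ _)
      | exact absurd hij.symm (hn _ _)
      | (have := hi _ _ (by omega) (by omega) hij; omega)
      | (have := hi' _ _ (by omega) (by omega) hij; omega)
  obtain ⟨T, hT, hT', hTe, hTx⟩ := exists_twist hx ι hι
    (List.formPerm [0, 1, 2] * List.formPerm [3, 4, 5]) (Equiv.swap 0 3 * Equiv.swap 1 5 * Equiv.swap 2 4)
    (fun i => by
      fin_cases i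
      · show x ((σ ^ 0) u) = (σ ^ 0) (x u); simp
      · show x ((σ ^ (m - 1)) u) = (σ ^ 1) (x u)
        rw [hxpow _ (by omega), show m - (m - 1) = 1 by omega]
      · show x ((σ ^ (m - 1)) (x u)) = (σ ^ 1) u
        rw [← hxpow 1 (by omega), hx]
      · show x ((σ ^ 0) (x u)) = (σ ^ 0) u; simp [hx]
      · exact hxpow 1 (by omega)
      · show x ((σ ^ 1) (x u)) = (σ ^ (m - 1)) u
        have := hxpow (m - 1) (by omega)
        rw [show m - (m - 1) = 1 by omega] at this
        rw [← this, hx])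
    (by decide) (e := 3) (by decide) (by decide)
  have hsupp : ∀ v, v ∉ orbit x y u → T v = v := by
    intro v hv
    apply hT'
    rintro ⟨i, rfl⟩
    apply hv
    fin_cases i
    exacts [pow_mem (self_mem u) _, pow_mem (self_mem u) _, pow_mem (x_mem hx hy (self_mem u)) _,
      pow_mem (x_mem hx hy (self_mem u)) _, pow_mem (self_mem u) _, pow_mem (x_mem hx hy (self_mem u)) _]
  refine ⟨T, hsupp, hTe, hTx, ?_⟩
  have f1 : (T * σ) ((σ ^ (m - 1)) u) = (σ ^ (m - 1)) u := by
    show T (σ ((σ ^ (m - 1)) u)) = _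
    rw [← Equiv.Perm.mul_apply σ, ← pow_succ', Nat.sub_add_cancel (by omega), hm, pow_per]
    exact hT 0
  have f2 : (T * σ) ((σ ^ (m - 1)) (x u)) = (σ ^ 1) u := by
    show T (σ ((σ ^ (m - 1)) (x u))) = _
    rw [← Equiv.Perm.mul_apply σ, ← pow_succ', Nat.sub_add_cancel (by omega), ← hmx, pow_per]
    exact hT 3
  have f3 : (T * σ) (x u) = x u := hT 5
  have f4 : (T * σ) u = (σ ^ 1) (x u) := hT 4
  have s1 := segment T σ ((σ ^ 1) u) (m - 2) fun i hi0 him => hT' _ (by
    rintro ⟨k, hk⟩
    rw [← Equiv.Perm.mul_apply, ← pow_add] at hk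
    fin_cases k <;> first
      | exact absurd hk (hn _ _)
      | exact absurd hk.symm (hn _ _)
      | (have := hi _ _ (by omega) (by omega) hk; omega))
  have s2 := segment T σ ((σ ^ 1) (x u)) (m - 2) fun i hi0 him => hT' _ (by
    rintro ⟨k, hk⟩
    rw [← Equiv.Perm.mul_apply, ← pow_add] at hk
    fin_cases k <;> first
      | exact absurd hk (hn _ _)
      | exact absurd hk.symm (hn _ _)
      | (have := hi' _ _ (by omega) (by omega) hk; omega))
  have e1 : ((T * σ) ^ (m - 2)) ((σ ^ 1) u) = (σ ^ (m - 1)) (x u) := by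
    rw [s1.2 (by omega), ← Equiv.Perm.mul_apply (σ ^ (m - 2)), ← pow_add, show m - 2 + 1 = m - 1 by omega]
    exact hT 1
  have e2 : ((T * σ) ^ (m - 2)) ((σ ^ 1) (x u)) = u := by
    rw [s2.2 (by omega), ← Equiv.Perm.mul_apply (σ ^ (m - 2)), ← pow_add, show m - 2 + 1 = m - 1 by omega]
    exact hT 2
  have hodd : Odd (m - 2 + 1) := by rw [Nat.even_iff] at hev; rw [Nat.odd_iff]; omega
  obtain ⟨p1, p1'⟩ := OddPer.of_two e1 (b := 1) (by rw [pow_one]; exact f2) hodd
  obtain ⟨p2, p2'⟩ := OddPer.of_two e2 (b := 1) (by rw [pow_one]; exact f4) hodd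
  intro v hv
  obtain ⟨j, hj, h | h⟩ := exists_pow_of_mem hx hy hv
  · rw [← h]
    rcases Nat.eq_zero_or_pos j with rfl | hj0
    · simpa using p2'
    by_cases hjm : j = m - 1
    · rw [hjm]; exact OddPer.fixed f1
    have := p1.pow (j - 1)
    rwa [s1.1 _ (by omega), ← Equiv.Perm.mul_apply, ← pow_add, Nat.sub_add_cancel hj0] at this
  · rw [← h]
    rcases Nat.eq_zero_or_pos j with rfl | hj0
    · exact OddPer.fixed (by rw [pow_zero]; exact f3)
    by_cases hjm : j = m - 1
    · rw [hjm]; exact p1'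
    have := p2.pow (j - 1)
    rwa [s2.1 _ (by omega), ← Equiv.Perm.mul_apply, ← pow_add, Nat.sub_add_cancel hj0] at this

end Cfsg.Agent.Lib.OddProductGraph
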