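import Cfsg.Agent.Lib.OddProductGraph.Pieces

/-!
The modifications that repair a square together with one further orbit.
-/

set_option autoImplicit false
set_option linter.style.haveILetI false
set_option linter.unusedSectionVars false

namespace Cfsg.Agent.Lib.OddProductGraph

variable {α : Type*} [Finite α] {x y : Equiv.Perm α}

/-- The four points of a square. -/
def quad (x y : Equiv.Perm α) (v : α) : Fin 4 → α := ![v, x v, (x * y) v, (x * y) (x v)]

/-- The action of `x` on the four points of a square. -/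
def quadSwap : Equiv.Perm (Fin 4) := Equiv.swap 0 1 * Equiv.swap 2 3

theorem OddPer.triangle {τ : Equiv.Perm α} {a b c : α} (h1 : τ a = b) (h2 : τ b = c) (h3 : τ c = a) :
    OddPer τ a ∧ OddPer τ b ∧ OddPer τ c := by
  have ha : OddPer τ a := ⟨3, by decide, by
    rw [pow_succ, pow_two, Equiv.Perm.mul_apply, Equiv.Perm.mul_apply, h1, h2, h3]⟩
  have hb : OddPer τ b := by simpa [h1] using ha.pow 1
  exact ⟨ha, hb, by simpa [h2] using hb.pow 1⟩

variable (hx : ∀ v, x (x v) = v) (hy : ∀ v, y (y v) = v)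
include hx hy

theorem quad_spec {v : α} (h : IsSquare x y v) :
    Function.Injective (quad x y v) ∧ (∀ i, x (quad x y v i) = quad x y v (quadSwap i)) ∧
      (∀ i, (x * y) (quad x y v i) = quad x y v (i + 2)) ∧ (∀ i, quad x y v i ∈ orbit x y v) ∧
      ∀ w ∈ orbit x y v, ∃ i, quad x y v i = w := by
  obtain ⟨⟨h1, h2, h3⟩, hinj, hmem, hcov⟩ := square_facts hx hy h
  refine ⟨hinj, fun i => ?_, fun i => ?_, hmem, hcov⟩
  · fin_cases i
    · exact rfl
    · exact hx v
    · exact h3
    · show x ((x * y) (x v)) = (x * y) v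
      rw [← h3, hx]
  · fin_cases i
    · exact rfl
    · exact rfl
    · exact h1
    · exact h2

theorem solved_square_fixed {v w : α} (hv : IsSquare x y v) (hxw : x w = w) (hodd : Odd (per x y w))
    (hne : w ∉ orbit x y v) : Solved x y (orbit x y v ∪ orbit x y w) := by
  obtain ⟨hinj, hξ, hσd, hmem, hcov⟩ := quad_spec hx hy hv
  set σ := x * y
  set q := per x y w with hq
  let ι : Fin 4 ⊕ Fin 1 → α := Sum.elim (quad x y v) ![w]
  have hι : Function.Injective ι := hinj.sumElim (fun a b _ => Subsingleton.elim a b) fun a b => by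
    fin_cases b
    exact ne_of_mem hx hy hne (hmem a) (self_mem w)
  obtain ⟨T, hT, hT', hTe, hTx⟩ := exists_twist hx ι hι
    (List.formPerm [Sum.inl 1, Sum.inr 0, Sum.inl 0]) (Equiv.Perm.sumCongr quadSwap 1)
    (fun i => by
      rcases i with i | i
      · exact hξ i
      · fin_cases i; exact hxw)
    (by decide) (e := 3) (by decide) (by decide)
  refine ⟨T, fun u hu => hT' u ?_, hTe, hTx, ?_⟩
  · rintro ⟨i, rfl⟩
    apply hu
    rcases i with i | i
    · exact Or.inl (hmem i)
    · fin_cases i; exact Or.inr (self_mem w)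
  have hd : ∀ i, (T * σ) (quad x y v i) = T (ι (Sum.inl (i + 2))) := fun i => congrArg T (hσd i)
  have s := segment T σ w q fun i hi hiq => hT' _ (by
    rintro ⟨k | k, hk⟩
    · exact ne_of_mem hx hy hne (hmem k) (pow_mem (self_mem w) i) hk
    · fin_cases k
      have := pow_inj (x := x) (y := y) (v := w) (i := 0) (j := i) (per_pos w) hiq (by rw [pow_zero]; exact hk)
      omega)
  have e2 : ((T * σ) ^ q) w = quad x y v 0 := by
    rw [s.2 (per_pos w), hq, pow_per]
    exact hT (Sum.inr 0)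
  have a0 : (T * σ) (quad x y v 0) = quad x y v 2 := (hd 0).trans (hT (Sum.inl 2))
  have a1 : (T * σ) (quad x y v 2) = quad x y v 1 := (hd 2).trans (hT (Sum.inl 0))
  have a2 : (T * σ) (quad x y v 1) = quad x y v 3 := (hd 1).trans (hT (Sum.inl 3))
  have a3 : (T * σ) (quad x y v 3) = w := (hd 3).trans (hT (Sum.inl 1))
  have e1 : ((T * σ) ^ 4) (quad x y v 0) = w := by
    simp only [pow_succ, pow_zero, one_mul]
    rw [Equiv.Perm.mul_apply, Equiv.Perm.mul_apply, Equiv.Perm.mul_apply, a0, a1, a2, a3]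
  obtain ⟨p1, p2⟩ := OddPer.of_two e1 e2 (by rw [Nat.odd_iff] at hodd ⊢; omega)
  have b2 : OddPer (T * σ) (quad x y v 2) := by
    have := p1.pow 1; rwa [pow_one, a0] at this
  have b1 : OddPer (T * σ) (quad x y v 1) := by
    have := b2.pow 1; rwa [pow_one, a1] at this
  have b3 : OddPer (T * σ) (quad x y v 3) := by
    have := b1.pow 1; rwa [pow_one, a2] at this
  intro u hu
  rcases hu with hu | hu
  · obtain ⟨i, rfl⟩ := hcov u hu
    fin_cases i
    exacts [p1, b1, b2, b3]
  · obtain ⟨j, hj, rfl⟩ := orbit_refl hx hy (hxw.symm ▸ Equiv.Perm.SameCycle.refl _ w) hu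
    have := p2.pow j
    rwa [s.1 j hj] at this

theorem solved_square_cycle_odd {v u : α} (hv : IsSquare x y v) (hcyc : IsCyc x y u)
    (hodd : Odd (per x y u)) (hne : u ∉ orbit x y v) : Solved x y (orbit x y v ∪ orbit x y u) := by
  obtain ⟨hinj, hξ, hσd, hmem, hcov⟩ := quad_spec hx hy hv
  set σ := x * y
  set m := per x y u with hm
  have hmx : per x y (x u) = m := per_x hx hy u
  have hxu : x u ∈ orbit x y u := x_mem hx hy (self_mem u)
  have hn : ∀ i j : ℕ, (σ ^ i) u ≠ (σ ^ j) (x u) := fun i j h => hcyc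
    (Equiv.Perm.sameCycle_pow_right.mp (h ▸ Equiv.Perm.sameCycle_pow_right.mpr
      (Equiv.Perm.SameCycle.refl _ u)))
  let ι : Fin 4 ⊕ Fin 2 → α := Sum.elim (quad x y v) ![u, x u]
  have hne' : u ≠ x u := by simpa using hn 0 0
  have hι : Function.Injective ι := hinj.sumElim
    (fun a b hab => by
      fin_cases a <;> fin_cases b <;> first | rfl | exact absurd hab hne' | exact absurd hab.symm hne')
    fun a b => by
    fin_cases b
    exacts [ne_of_mem hx hy hne (hmem a) (self_mem u), ne_of_mem hx hy hne (hmem a) hxu]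
  obtain ⟨T, hT, hT', hTe, hTx⟩ := exists_twist hx ι hι
    (List.formPerm [Sum.inl 0, Sum.inr 1, Sum.inl 3] * List.formPerm [Sum.inl 1, Sum.inl 2, Sum.inr 0])
    (Equiv.Perm.sumCongr quadSwap (Equiv.swap 0 1))
    (fun i => by
      rcases i with i | i
      · exact hξ i
      · fin_cases i
        · exact rfl
        · exact hx u)
    (by decide) (e := 3) (by decide) (by decide)
  refine ⟨T, fun z hz => hT' z ?_, hTe, hTx, ?_⟩
  · rintro ⟨i, rfl⟩
    apply hz
    rcases i with i | i
    · exact Or.inl (hmem i)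
    · fin_cases i
      exacts [Or.inr (self_mem u), Or.inr hxu]
  have hd : ∀ i, (T * σ) (quad x y v i) = T (ι (Sum.inl (i + 2))) := fun i => congrArg T (hσd i)
  have s1 := segment T σ u m fun i hi hiq => hT' _ (by
    rintro ⟨k | k, hk⟩
    · exact ne_of_mem hx hy hne (hmem k) (pow_mem (self_mem u) i) hk
    · fin_cases k
      · have := pow_inj (x := x) (y := y) (v := u) (i := 0) (j := i) (per_pos u) hiq
          (by rw [pow_zero]; exact hk)
        omega
      · exact hn i 0 (by rw [pow_zero]; exact hk.symm))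
  have s2 := segment T σ (x u) m fun i hi hiq => hT' _ (by
    rintro ⟨k | k, hk⟩
    · exact ne_of_mem hx hy hne (hmem k) (pow_mem hxu i) hk
    · fin_cases k
      · exact hn 0 i (by rw [pow_zero]; exact hk)
      · have := pow_inj (x := x) (y := y) (v := x u) (i := 0) (j := i) (per_pos _) (hmx.symm ▸ hiq)
          (by rw [pow_zero]; exact hk)
        omega)
  have e1 : ((T * σ) ^ m) u = quad x y v 1 := by
    rw [s1.2 (per_pos u), hm, pow_per]
    exact hT (Sum.inr 0)
  have e2 : ((T * σ) ^ m) (x u) = quad x y v 3 := by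
    rw [s2.2 (per_pos u), ← hmx, pow_per]
    exact hT (Sum.inr 1)
  have a1 : (T * σ) (quad x y v 1) = quad x y v 0 := (hd 1).trans (hT (Sum.inl 3))
  have a0 : (T * σ) (quad x y v 0) = u := (hd 0).trans (hT (Sum.inl 2))
  have a3 : (T * σ) (quad x y v 3) = quad x y v 2 := (hd 3).trans (hT (Sum.inl 1))
  have a2 : (T * σ) (quad x y v 2) = x u := (hd 2).trans (hT (Sum.inl 0))
  obtain ⟨p1, q1⟩ := OddPer.of_two e1 (b := 2)
    (by rw [pow_two, Equiv.Perm.mul_apply, a1, a0]) (hodd.add_even even_two)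
  obtain ⟨p2, q3⟩ := OddPer.of_two e2 (b := 2)
    (by rw [pow_two, Equiv.Perm.mul_apply, a3, a2]) (hodd.add_even even_two)
  have q0 : OddPer (T * σ) (quad x y v 0) := by have := q1.pow 1; rwa [pow_one, a1] at this
  have q2 : OddPer (T * σ) (quad x y v 2) := by have := q3.pow 1; rwa [pow_one, a3] at this
  intro z hz
  rcases hz with hz | hz
  · obtain ⟨i, rfl⟩ := hcov z hz
    fin_cases i
    exacts [q0, q1, q2, q3]
  · obtain ⟨j, hj, h | h⟩ := exists_pow_of_mem hx hy hz
    · have := p1.pow j; rwa [s1.1 j hj, h] at this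
    · have := p2.pow j; rwa [s2.1 j hj, h] at this

theorem solved_square_cycle_even {v u : α} (hv : IsSquare x y v) (hcyc : IsCyc x y u)
    (hev : Even (per x y u)) (hne : u ∉ orbit x y v) : Solved x y (orbit x y v ∪ orbit x y u) := by
  obtain ⟨hinj, hξ, hσd, hmem, hcov⟩ := quad_spec hx hy hv
  set σ := x * y
  set m := per x y u with hm
  have hm2 : 2 ≤ m := by
    have := per_pos (x := x) (y := y) u
    rcases hev with ⟨r, hr⟩
    omega
  have hmx : per x y (x u) = m := per_x hx hy u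
  have hxu : x u ∈ orbit x y u := x_mem hx hy (self_mem u)
  have hn : ∀ i j : ℕ, (σ ^ i) u ≠ (σ ^ j) (x u) := fun i j h => hcyc
    (Equiv.Perm.sameCycle_pow_right.mp (h ▸ Equiv.Perm.sameCycle_pow_right.mpr
      (Equiv.Perm.SameCycle.refl _ u)))
  have hxc : x ((σ ^ 1) u) = (σ ^ (m - 1)) (x u) := by
    apply (σ ^ 1).injective
    rw [conj_pow hx hy, ← Equiv.Perm.mul_apply (σ ^ 1), ← pow_add, show 1 + (m - 1) = m by omega,
      ← hmx, pow_per]
  let E : Fin 4 → α := ![(σ ^ 0) u, (σ ^ 0) (x u), (σ ^ 1) u, (σ ^ (m - 1)) (x u)]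
  have hEmem : ∀ b, E b ∈ orbit x y u := fun b => by
    fin_cases b
    exacts [pow_mem (self_mem u) 0, pow_mem hxu 0, pow_mem (self_mem u) 1, pow_mem hxu _]
  let ι : Fin 4 ⊕ Fin 4 → α := Sum.elim (quad x y v) E
  have hι : Function.Injective ι := hinj.sumElim
    (fun a b hab => by
      fin_cases a <;> fin_cases b <;> first
      | rfl
      | exact absurd hab (hn _ _)
      | exact absurd hab.symm (hn _ _)
      | (have := pow_inj (x := x) (y := y) (v := u) (by omega) (by omega) hab; omega)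
      | (have := pow_inj (x := x) (y := y) (v := x u) (by omega) (by omega) hab; omega))
    fun a b => ne_of_mem hx hy hne (hmem a) (hEmem b)
  obtain ⟨T, hT, hT', hTe, hTx⟩ := exists_twist hx ι hι
    (List.formPerm [Sum.inl 2, Sum.inr 3, Sum.inr 1] * List.formPerm [Sum.inl 3, Sum.inr 0, Sum.inr 2])
    (Equiv.Perm.sumCongr quadSwap quadSwap)
    (fun i => by
      rcases i with i | i
      · exact hξ i
      · fin_cases i
        · show x ((σ ^ 0) u) = (σ ^ 0) (x u); simp
        · show x ((σ ^ 0) (x u)) = (σ ^ 0) u; simp [hx]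
        · exact hxc
        · show x ((σ ^ (m - 1)) (x u)) = (σ ^ 1) u
          rw [← hxc, hx])
    (by decide) (e := 3) (by decide) (by decide)
  refine ⟨T, fun z hz => hT' z ?_, hTe, hTx, ?_⟩
  · rintro ⟨i, rfl⟩
    apply hz
    rcases i with i | i
    · exact Or.inl (hmem i)
    · exact Or.inr (hEmem i)
  have hd : ∀ i, (T * σ) (quad x y v i) = T (ι (Sum.inl (i + 2))) := fun i => congrArg T (hσd i)
  have a0 : (T * σ) (quad x y v 0) = (σ ^ (m - 1)) (x u) := (hd 0).trans (hT (Sum.inl 2))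
  have a2 : (T * σ) (quad x y v 2) = quad x y v 0 := (hd 2).trans (hT (Sum.inl 0))
  have ae : (T * σ) ((σ ^ (m - 1)) (x u)) = quad x y v 2 := by
    show T (σ ((σ ^ (m - 1)) (x u))) = _
    rw [← Equiv.Perm.mul_apply σ, ← pow_succ', Nat.sub_add_cancel (by omega), ← hmx, pow_per]
    exact hT (Sum.inr 1)
  have a1 : (T * σ) (quad x y v 1) = (σ ^ 0) u := (hd 1).trans (hT (Sum.inl 3))
  have au : (T * σ) ((σ ^ 0) u) = quad x y v 3 := hT (Sum.inr 2)
  have a3 : (T * σ) (quad x y v 3) = quad x y v 1 := (hd 3).trans (hT (Sum.inl 1))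
  obtain ⟨r0, re, r2⟩ := OddPer.triangle a0 ae a2
  obtain ⟨r1, ru, r3⟩ := OddPer.triangle a1 au a3
  have s1 := segment T σ ((σ ^ 1) u) (m - 1) fun i hi him => hT' _ (by
    rintro ⟨k | k, hk⟩
    · exact ne_of_mem hx hy hne (hmem k) (pow_mem (pow_mem (self_mem u) 1) i) hk
    · rw [← Equiv.Perm.mul_apply, ← pow_add] at hk
      fin_cases k <;> first
      | exact absurd hk (hn _ _)
      | exact absurd hk.symm (hn _ _)
      | (have := pow_inj (x := x) (y := y) (v := u) (by omega) (by omega) hk; omega))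
  have s2 := segment T σ ((σ ^ 0) (x u)) (m - 1) fun i hi him => hT' _ (by
    rintro ⟨k | k, hk⟩
    · exact ne_of_mem hx hy hne (hmem k) (pow_mem (pow_mem hxu 0) i) hk
    · rw [← Equiv.Perm.mul_apply, ← pow_add] at hk
      fin_cases k <;> first
      | exact absurd hk (hn _ _)
      | exact absurd hk.symm (hn _ _)
      | (have := pow_inj (x := x) (y := y) (v := x u) (by omega) (by omega) hk; omega))
  have hodd : Odd (m - 1) := by rw [Nat.even_iff] at hev; rw [Nat.odd_iff]; omega
  have p1 : OddPer (T * σ) ((σ ^ 1) u) := ⟨m - 1, hodd, by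
    rw [s1.2 (by omega), ← Equiv.Perm.mul_apply (σ ^ (m - 1)), ← pow_add, Nat.sub_add_cancel (by omega), hm,
      pow_per]
    exact hT (Sum.inr 0)⟩
  have p2 : OddPer (T * σ) ((σ ^ 0) (x u)) := ⟨m - 1, hodd, by
    rw [s2.2 (by omega), ← Equiv.Perm.mul_apply (σ ^ (m - 1)), ← pow_add, add_zero]
    exact hT (Sum.inr 3)⟩
  intro z hz
  rcases hz with hz | hz
  · obtain ⟨i, rfl⟩ := hcov z hz
    fin_cases i
    exacts [r0, r1, r2, r3]
  · obtain ⟨j, hj, h | h⟩ := exists_pow_of_mem hx hy hz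
    · rcases Nat.eq_zero_or_pos j with rfl | hj0
      · rw [← h]; exact ru
      have := p1.pow (j - 1)
      rwa [s1.1 _ (by omega), ← Equiv.Perm.mul_apply, ← pow_add, Nat.sub_add_cancel hj0, h] at this
    · by_cases hjm : j = m - 1
      · rw [← h, hjm]; exact re
      have := p2.pow j
      rwa [s2.1 _ (by omega), pow_zero, Equiv.Perm.one_apply, h] at this

set_option maxRecDepth 20000 in
theorem solved_square_pair {v a w : α} (hv : IsSquare x y v) (ha : IsEndA x y a) (hw : IsEndB x y w)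
    (hne : w ∉ orbit x y a) (hva : a ∉ orbit x y v) (hvw : w ∉ orbit x y v) :
    Solved x y (orbit x y v ∪ (orbit x y a ∪ orbit x y w)) := by
  obtain ⟨hinj, hξ, hσd, hmem, hcov⟩ := quad_spec hx hy hv
  obtain ⟨hxa, hma⟩ := ha
  obtain ⟨hxw, hmw⟩ := hw
  set σ := x * y
  set m := per x y a with hm
  set q := per x y w with hq
  have hm0 := per_pos (x := x) (y := y) a
  have hq0 := per_pos (x := x) (y := y) w
  have hm2 : 2 ≤ m := by rcases hma with ⟨r, hr⟩; omega
  have hane : a ≠ σ a := fun h => by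
    have := (pow_apply_eq_self_iff (x := x) (y := y) a 1).mp (by rw [pow_one]; exact h.symm)
    have := Nat.le_of_dvd one_pos this
    omega
  have hσa : σ a ∈ orbit x y a := by
    have := pow_mem (x := x) (y := y) (self_mem a) 1
    rwa [pow_one] at this
  have hwa : ∀ u ∈ orbit x y a, u ≠ w := fun u hu => ne_of_mem hx hy hne hu (self_mem w)
  let E : Fin 3 → α := ![a, σ a, w]
  let ι : Fin 4 ⊕ Fin 3 → α := Sum.elim (quad x y v) E
  have h0 := hwa a (self_mem a)
  have h1 := hwa _ hσa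
  have hι : Function.Injective ι := hinj.sumElim
    (fun i j hij => by
      fin_cases i <;> fin_cases j <;> first
        | rfl
        | exact absurd hij h0 | exact absurd hij.symm h0
        | exact absurd hij h1 | exact absurd hij.symm h1
        | exact absurd hij hane | exact absurd hij.symm hane)
    fun i j => by
      fin_cases j
      exacts [ne_of_mem hx hy hva (hmem i) (self_mem a), ne_of_mem hx hy hva (hmem i) hσa,
        ne_of_mem hx hy hvw (hmem i) (self_mem w)]
  obtain ⟨T, hT, hT', hTe, hTx⟩ := exists_twist hx ι hι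
    (List.formPerm [Sum.inr 0, Sum.inr 2, Sum.inr 1, Sum.inl 0, Sum.inl 2, Sum.inl 3, Sum.inl 1])
    (Equiv.Perm.sumCongr quadSwap (Equiv.swap 0 1))
    (fun i => by
      rcases i with i | i
      · exact hξ i
      · fin_cases i
        · exact hxa
        · show x (σ a) = a
          rw [← hxa, hx]
        · exact hxw)
    (by decide) (e := 7) (by decide) (by decide)
  refine ⟨T, fun z hz => hT' z ?_, hTe, hTx, ?_⟩
  · rintro ⟨i, rfl⟩
    apply hz
    rcases i with i | i
    · exact Or.inl (hmem i)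
    · fin_cases i
      exacts [Or.inr (Or.inl (self_mem a)), Or.inr (Or.inl hσa), Or.inr (Or.inr (self_mem w))]
  have hd : ∀ i, (T * σ) (quad x y v i) = T (ι (Sum.inl (i + 2))) := fun i => congrArg T (hσd i)
  have aa : (T * σ) a = quad x y v 0 := hT (Sum.inr 1)
  have a0 : (T * σ) (quad x y v 0) = quad x y v 3 := (hd 0).trans (hT (Sum.inl 2))
  have a3 : (T * σ) (quad x y v 3) = a := (hd 3).trans (hT (Sum.inl 1))
  obtain ⟨ra, r0, r3⟩ := OddPer.triangle aa a0 a3
  have r1 : OddPer (T * σ) (quad x y v 1) := OddPer.fixed ((hd 1).trans (hT (Sum.inl 3)))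
  have r2 : OddPer (T * σ) (quad x y v 2) := OddPer.fixed ((hd 2).trans (hT (Sum.inl 0)))
  have s1 := segment T σ (σ a) (m - 1) fun i hi him => hT' _ (by
    rintro ⟨k | k, hk⟩
    · exact ne_of_mem hx hy hva (hmem k) (pow_mem hσa i) hk
    have e : (σ ^ i) (σ a) = (σ ^ (i + 1)) a := by rw [pow_succ]; rfl
    rw [e] at hk
    fin_cases k
    · have := pow_inj (x := x) (y := y) (v := a) (i := 0) (j := i + 1) hm0 (by omega)
        (by rw [pow_zero]; exact hk)
      omega
    · have := pow_inj (x := x) (y := y) (v := a) (i := 1) (j := i + 1) (by omega) (by omega)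
        (by rw [pow_one]; exact hk)
      omega
    · exact hwa _ (pow_mem (self_mem a) _) hk.symm)
  have s2 := segment T σ w q fun i hi hiq => hT' _ (by
    rintro ⟨k | k, hk⟩
    · exact ne_of_mem hx hy hvw (hmem k) (pow_mem (self_mem w) i) hk
    fin_cases k
    · exact (ne_of_mem hx hy hne (self_mem a) (pow_mem (self_mem w) i) hk).elim
    · exact (ne_of_mem hx hy hne hσa (pow_mem (self_mem w) i) hk).elim
    · have := pow_inj (x := x) (y := y) (v := w) (i := 0) (j := i) hq0 hiq (by rw [pow_zero]; exact hk)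
      omega)
  have e1 : ((T * σ) ^ (m - 1)) (σ a) = w := by
    rw [s1.2 (by omega)]
    have : (σ ^ (m - 1)) (σ a) = a := by
      rw [← Equiv.Perm.mul_apply, ← pow_succ, Nat.sub_add_cancel (by omega), hm, pow_per]
    rw [this]
    exact hT (Sum.inr 0)
  have e2 : ((T * σ) ^ q) w = σ a := by
    rw [s2.2 hq0, hq, pow_per]
    exact hT (Sum.inr 2)
  obtain ⟨p1, p2⟩ := OddPer.of_two e1 e2 (by
    rw [Nat.odd_iff]; rw [Nat.even_iff] at hma hmw; omega)
  intro z hz
  rcases hz with hz | hz | hz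
  · obtain ⟨i, rfl⟩ := hcov z hz
    fin_cases i
    exacts [r0, r1, r2, r3]
  · obtain ⟨j, hj, rfl⟩ := orbit_refl hx hy ⟨1, by rw [zpow_one]; exact hxa.symm⟩ hz
    cases j with
    | zero => exact ra
    | succ i =>
      have := p1.pow i
      rwa [s1.1 i (by omega), ← Equiv.Perm.mul_apply, ← pow_succ] at this
  · obtain ⟨j, hj, rfl⟩ := orbit_refl hx hy (hxw.symm ▸ Equiv.Perm.SameCycle.refl _ w) hz
    have := p2.pow j
    rwa [s2.1 j hj] at this

set_option maxRecDepth 20000 in
theorem solved_three_squares {u v w : α} (hu : IsSquare x y u) (hv : IsSquare x y v)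
    (hw : IsSquare x y w) (huv : v ∉ orbit x y u) (huw : w ∉ orbit x y u) (hvw : w ∉ orbit x y v) :
    Solved x y (orbit x y u ∪ (orbit x y v ∪ orbit x y w)) := by
  obtain ⟨iu, xu, cu, mu, gu⟩ := quad_spec hx hy hu
  obtain ⟨iv, xv, cv, mv, gv⟩ := quad_spec hx hy hv
  obtain ⟨iw, xw, cw, mw, gw⟩ := quad_spec hx hy hw
  let ι : Fin 4 ⊕ (Fin 4 ⊕ Fin 4) → α := Sum.elim (quad x y u) (Sum.elim (quad x y v) (quad x y w))
  have hι : Function.Injective ι :=
    iu.sumElim (iv.sumElim iw fun a b => ne_of_mem hx hy hvw (mv a) (mw b)) fun a b => by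
      rcases b with b | b
      · exact ne_of_mem hx hy huv (mu a) (mv b)
      · exact ne_of_mem hx hy huw (mu a) (mw b)
  obtain ⟨T, hT, hT', hTe, hTx⟩ := exists_twist hx ι hι
    (List.formPerm [Sum.inl 2, Sum.inr (Sum.inl 3), Sum.inr (Sum.inr 3), Sum.inr (Sum.inr 0),
        Sum.inr (Sum.inl 1)] *
      List.formPerm [Sum.inl 3, Sum.inr (Sum.inl 0), Sum.inr (Sum.inr 1), Sum.inr (Sum.inr 2),
        Sum.inr (Sum.inl 2)])
    (Equiv.Perm.sumCongr quadSwap (Equiv.Perm.sumCongr quadSwap quadSwap))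
    (fun i => by
      rcases i with i | i | i
      exacts [xu i, xv i, xw i])
    (by decide) (e := 5) (by decide) (by decide)
  refine ⟨T, fun z hz => hT' z ?_, hTe, hTx, ?_⟩
  · rintro ⟨i, rfl⟩
    apply hz
    rcases i with i | i | i
    exacts [Or.inl (mu i), Or.inr (Or.inl (mv i)), Or.inr (Or.inr (mw i))]
  have hD : ∀ i, (T * (x * y)) (quad x y u i) = T (ι (Sum.inl (i + 2))) := fun i => congrArg T (cu i)
  have hE : ∀ i, (T * (x * y)) (quad x y v i) = T (ι (Sum.inr (Sum.inl (i + 2)))) := fun i =>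
    congrArg T (cv i)
  have hG : ∀ i, (T * (x * y)) (quad x y w i) = T (ι (Sum.inr (Sum.inr (i + 2)))) := fun i =>
    congrArg T (cw i)
  obtain ⟨d0, e3, d2⟩ := OddPer.triangle ((hD 0).trans (hT (Sum.inl 2)))
    ((hE 3).trans (hT (Sum.inr (Sum.inl 1)))) ((hD 2).trans (hT (Sum.inl 0)))
  obtain ⟨d1, e0, d3⟩ := OddPer.triangle ((hD 1).trans (hT (Sum.inl 3)))
    ((hE 0).trans (hT (Sum.inr (Sum.inl 2)))) ((hD 3).trans (hT (Sum.inl 1)))
  obtain ⟨e2, g1, g0⟩ := OddPer.triangle ((hE 2).trans (hT (Sum.inr (Sum.inl 0))))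
    ((hG 1).trans (hT (Sum.inr (Sum.inr 3)))) ((hG 0).trans (hT (Sum.inr (Sum.inr 2))))
  obtain ⟨e1, g3, g2⟩ := OddPer.triangle ((hE 1).trans (hT (Sum.inr (Sum.inl 3))))
    ((hG 3).trans (hT (Sum.inr (Sum.inr 1)))) ((hG 2).trans (hT (Sum.inr (Sum.inr 0))))
  intro z hz
  rcases hz with hz | hz | hz
  · obtain ⟨i, rfl⟩ := gu z hz
    fin_cases i
    exacts [d0, d1, d2, d3]
  · obtain ⟨i, rfl⟩ := gv z hz
    fin_cases i
    exacts [e0, e1, e2, e3]
  · obtain ⟨i, rfl⟩ := gw z hz
    fin_cases i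
    exacts [g0, g1, g2, g3]

end Cfsg.Agent.Lib.OddProductGraph
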